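import Mathlib
import Cfsg.Agent.TT.UBasic
import Cfsg.Agent.Comp.Basic

/-! The unitary space in dimension four is the orthogonal space in dimension five over the field
with three elements. -/

set_option autoImplicit false

namespace Cfsg.Agent.TT

open Subgroup Cfsg.Agent.Class Cfsg.Agent.Comp

variable {G : Type*} [Group G] {D : Set G}

theorem uf_stdQ_apply (n : ℕ) (v : Fin n → ZMod 3) : stdQ n v = -∑ i, v i * v i := by
  simp [stdQ, QuadraticMap.weightedSumSquares_apply]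

theorem uf_stdQ_polar (n : ℕ) (u v : Fin n → ZMod 3) :
    QuadraticMap.polar (stdQ n) u v = ∑ i, u i * v i := by
  simp only [QuadraticMap.polar, uf_stdQ_apply, Pi.add_apply]
  rw [← Finset.sum_neg_distrib, ← Finset.sum_neg_distrib, ← Finset.sum_neg_distrib,
    ← Finset.sum_sub_distrib, ← Finset.sum_sub_distrib]
  refine Finset.sum_congr rfl fun i _ => ?_
  have : ∀ a b : ZMod 3, -((a + b) * (a + b)) - -(a * a) - -(b * b) = a * b := by decide
  exact this _ _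

theorem uf_stdQ_nondeg (n : ℕ) : (QuadraticMap.polarBilin (stdQ n)).Nondegenerate := by
  have key : ∀ x : Fin n → ZMod 3, ∀ i, QuadraticMap.polar (stdQ n) x (Pi.single i 1) = x i :=
    fun x i => by simp [uf_stdQ_polar, Pi.single_apply]
  refine ⟨fun x hx => funext fun i => ?_, fun x hx => funext fun i => ?_⟩
  · rw [← key x]; exact hx _
  · rw [← key x, QuadraticMap.polar_comm]; exact hx _

/-- The table of the isomorphism. -/
def ufTab : ℕ := 0xc40000ed219d000000d9000031b98400691100447d000000000000c100007924e9000000bd0000346d8100dd1400419900000000e5d500659000000000d0950075b5000000000000000000000000500000340000bd816d000000790000c1e9240099410014dd000000000000310000d984b9000000ed0000c49d21007d4400116900000000b5750095d000000000906500d5e500000000000000000000000050ad5900a90d00000000095d00fdf900000000000000000000000005f9fd005d09000000000da90059ad000000000000000000000000050000000000000000550000000000000000550000a50000a5f5f500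

/-- Elements of the field with four elements from their codes. -/
def ufG (x : ℕ) : GF4 := ⟨(x : ZMod 2), (x / 2 : ℕ)⟩

/-- Multiplication of codes. -/
def ufM (x y : ℕ) : ℕ :=
  Nat.mod (Nat.shiftRight 0x9c78e400 (Nat.mul 2 (Nat.add (Nat.mul 4 x) y))) 4

/-- Digits in base four. -/
def ufD (x i : ℕ) : ℕ := Nat.mod (Nat.shiftRight x (Nat.mul 2 i)) 4

theorem ufD_lt (x i : ℕ) : ufD x i < 4 := Nat.mod_lt _ (by norm_num)

theorem ufM_lt (x y : ℕ) : ufM x y < 4 := Nat.mod_lt _ (by norm_num)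

theorem uf_xor_lt {x y : ℕ} (hx : x < 4) (hy : y < 4) : Nat.xor x y < 4 :=
  Nat.xor_lt_two_pow (n := 2) hx hy

theorem ufG_mul {x y : ℕ} (hx : x < 4) (hy : y < 4) : ufG (ufM x y) = ufG x * ufG y := by
  revert y; revert x; decide

theorem ufG_xor {x y : ℕ} (hx : x < 4) (hy : y < 4) : ufG (Nat.xor x y) = ufG x + ufG y := by
  revert y; revert x; decide

theorem ufG_inj {x y : ℕ} (hx : x < 4) (hy : y < 4) : ufG x = ufG y ↔ x = y := by
  revert y; revert x; decide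

theorem ufG_surj (c : GF4) : ∃ x < 4, ufG x = c := by revert c; decide

/-- Vectors over the field with four elements from their codes. -/
def ufV (x : ℕ) : Fin 4 → GF4 := fun i => ufG (ufD x i)

theorem ufV_surj (w : Fin 4 → GF4) : ∃ x < 256, ufV x = w := by
  obtain ⟨a, ha, h0⟩ := ufG_surj (w 0)
  obtain ⟨b, hb, h1⟩ := ufG_surj (w 1)
  obtain ⟨c, hc, h2⟩ := ufG_surj (w 2)
  obtain ⟨d, hd, h3⟩ := ufG_surj (w 3)
  have key : ∀ a < 4, ∀ b < 4, ∀ c < 4, ∀ d < 4, ufD (a + 4 * b + 16 * c + 64 * d) 0 = a ∧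
      ufD (a + 4 * b + 16 * c + 64 * d) 1 = b ∧ ufD (a + 4 * b + 16 * c + 64 * d) 2 = c ∧
      ufD (a + 4 * b + 16 * c + 64 * d) 3 = d := by decide +kernel
  obtain ⟨k0, k1, k2, k3⟩ := key a ha b hb c hc d hd
  refine ⟨a + 4 * b + 16 * c + 64 * d, by omega, funext fun i => ?_⟩
  fin_cases i
  exacts [(congrArg ufG k0).trans h0, (congrArg ufG k1).trans h1, (congrArg ufG k2).trans h2,
    (congrArg ufG k3).trans h3]

/-- The Hermitian form on codes. -/
def ufH (x y : ℕ) : ℕ :=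
  Nat.xor (Nat.xor (ufM (ufD x 0) (ufM (ufD y 0) (ufD y 0))) (ufM (ufD x 1) (ufM (ufD y 1) (ufD y 1))))
    (Nat.xor (ufM (ufD x 2) (ufM (ufD y 2) (ufD y 2))) (ufM (ufD x 3) (ufM (ufD y 3) (ufD y 3))))

theorem ufH_lt (x y : ℕ) : ufH x y < 4 :=
  uf_xor_lt (uf_xor_lt (ufM_lt _ _) (ufM_lt _ _)) (uf_xor_lt (ufM_lt _ _) (ufM_lt _ _))

theorem ufH_eq (x y : ℕ) : hermForm 4 GF4 2 (ufV x) (ufV y) = ufG (ufH x y) := by
  simp only [ufH, ufG_xor, ufG_mul, uf_xor_lt, ufM_lt, ufD_lt, hermForm, Fin.sum_univ_four,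
    pow_two, ufV, add_assoc]
  rfl

/-- Vectors over the field with three elements from their codes. -/
def ufW (k : ℕ) : Fin 5 → ZMod 3 := fun i => (Nat.div k (Nat.pow 3 i) : ℕ)

/-- The code of a vector. -/
def ufIdx (v : Fin 5 → ZMod 3) : ℕ :=
  (v 0).val + 3 * (v 1).val + 9 * (v 2).val + 27 * (v 3).val + 81 * (v 4).val

theorem ufIdx_W : ∀ k < 243, ufIdx (ufW k) = k := by decide +kernel

theorem ufW_surj (v : Fin 5 → ZMod 3) : ∃ k < 243, ufW k = v := by
  have key : ∀ a b c d e : ZMod 3, ufIdx ![a, b, c, d, e] < 243 ∧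
      ∀ i, ufW (ufIdx ![a, b, c, d, e]) i = ![a, b, c, d, e] i := by decide +kernel
  have : v = ![v 0, v 1, v 2, v 3, v 4] := by ext i; fin_cases i <;> rfl
  rw [this]
  exact ⟨_, (key _ _ _ _ _).1, funext (key _ _ _ _ _).2⟩

theorem uf_mod3 (a b : ℕ) : Nat.mod a 3 = Nat.mod b 3 ↔ (a : ZMod 3) = b :=
  (ZMod.natCast_eq_natCast_iff' a b 3).symm

/-- The dot product on codes. -/
def ufB (k l : ℕ) : ℕ :=
  Nat.mod (Nat.add (Nat.add (Nat.add (Nat.add (Nat.mul k l) (Nat.mul (Nat.div k 3) (Nat.div l 3)))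
    (Nat.mul (Nat.div k 9) (Nat.div l 9))) (Nat.mul (Nat.div k 27) (Nat.div l 27)))
    (Nat.mul (Nat.div k 81) (Nat.div l 81))) 3

theorem ufB_eq (k l : ℕ) : QuadraticMap.polar (stdQ 5) (ufW k) (ufW l) = ufB k l := by
  rw [uf_stdQ_polar, Fin.sum_univ_five, ufB]
  refine Eq.trans ?_ (ZMod.natCast_mod _ 3).symm
  simp only [Nat.add_eq, Nat.mul_eq, Nat.cast_add, Nat.cast_mul, ufW]
  rw [show Nat.div k (Nat.pow 3 (0 : Fin 5)) = k from Nat.div_one k,
    show Nat.div l (Nat.pow 3 (0 : Fin 5)) = l from Nat.div_one l]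
  rfl

theorem ufQ_iff (k : ℕ) : stdQ 5 (ufW k) = -1 ↔ ufB k k = 1 := by
  rw [uf_stdQ_apply, ← uf_stdQ_polar, ufB_eq, neg_inj, ← Nat.cast_one,
    ZMod.natCast_eq_natCast_iff', Nat.mod_eq_of_lt (show ufB k k < 3 from Nat.mod_lt _ (by norm_num))]

/-- The entries of the table. -/
def ufC (k : ℕ) : ℕ := Nat.mod (Nat.shiftRight ufTab (Nat.mul 8 k)) 256

/-- The map on vectors. -/
def ufMap (v : Fin 5 → ZMod 3) : Fin 4 → GF4 := ufV (ufC (ufIdx v))

theorem ufMap_W {k : ℕ} (hk : k < 243) : ufMap (ufW k) = ufV (ufC k) := by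
  rw [ufMap, ufIdx_W k hk]

/-- Proportional vectors. -/
noncomputable def ufP (x y : ℕ) : Bool :=
  anyLT 4 fun t => allLT 4 fun i => Nat.beq (ufD x i) (ufM t (ufD y i))

theorem ufP_iff (x y : ℕ) : ufP x y = true ↔ ∃ t : GF4, ufV x = t • ufV y := by
  simp only [ufP, anyLT_iff, allLT_iff, beq_iff, funext_iff, Pi.smul_apply, smul_eq_mul, ufV]
  constructor
  · rintro ⟨t, ht, h⟩
    exact ⟨ufG t, fun i => by rw [h i i.2, ufG_mul ht (ufD_lt _ _)]⟩
  · rintro ⟨t, h⟩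
    obtain ⟨t, ht, rfl⟩ := ufG_surj t
    refine ⟨t, ht, fun i hi => ?_⟩
    rw [← ufG_inj (ufD_lt _ _) (ufM_lt _ _), ufG_mul ht (ufD_lt _ _)]
    exact h ⟨i, hi⟩

/-- Proportional vectors. -/
noncomputable def ufP3 (k l : ℕ) : Bool :=
  anyLT 3 fun t => allLT 5 fun i =>
    Nat.beq (Nat.mod (Nat.div k (Nat.pow 3 i)) 3) (Nat.mod (Nat.mul t (Nat.div l (Nat.pow 3 i))) 3)

theorem ufP3_iff (k l : ℕ) : ufP3 k l = true ↔ ∃ t : ZMod 3, ufW k = t • ufW l := by
  simp only [ufP3, anyLT_iff, allLT_iff, beq_iff, funext_iff, Pi.smul_apply, smul_eq_mul, ufW,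
    uf_mod3, Nat.mul_eq, Nat.cast_mul]
  constructor
  · rintro ⟨t, -, h⟩
    exact ⟨t, fun i => h i i.2⟩
  · rintro ⟨t, h⟩
    exact ⟨t.val, ZMod.val_lt t, fun i hi => by rw [ZMod.natCast_zmod_val]; exact h ⟨i, hi⟩⟩

theorem uf_mem : allLT 243 (fun k => or' (not' (Nat.beq (ufB k k) 1))
    (and' (not' (ufP (ufC k) 0)) (Nat.beq (ufH (ufC k) (ufC k)) 0))) = true := by decide +kernel

theorem uf_surj : allLT 256 (fun x => or' (Nat.beq x 0) (or' (not' (Nat.beq (ufH x x) 0))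
    (anyLT 243 fun k => and' (Nat.beq (ufB k k) 1) (ufP (ufC k) x)))) = true := by decide +kernel

theorem uf_pair : allLT 243 (fun k => or' (not' (Nat.beq (ufB k k) 1)) (force (ufC k) fun x =>
    allLT 243 fun l => or' (not' (Nat.beq (ufB l l) 1)) (force (ufC l) fun y =>
      force (ufB l k) fun s => force (ufH y x) fun r =>
      force (Nat.add (Nat.add (Nat.add (Nat.add (Nat.mod (Nat.add l (Nat.mul s k)) 3)
        (Nat.mul 3 (Nat.mod (Nat.add (Nat.div l 3) (Nat.mul s (Nat.div k 3))) 3)))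
        (Nat.mul 9 (Nat.mod (Nat.add (Nat.div l 9) (Nat.mul s (Nat.div k 9))) 3)))
        (Nat.mul 27 (Nat.mod (Nat.add (Nat.div l 27) (Nat.mul s (Nat.div k 27))) 3)))
        (Nat.mul 81 (Nat.mod (Nat.add (Nat.div l 81) (Nat.mul s (Nat.div k 81))) 3))) fun m =>
      force (ufC m) fun z =>
      and' (ite' (ufP x y) (ufP3 k l) (not' (ufP3 k l))) (and' (Nat.blt m 243) (and'
        (allLT 5 fun i => Nat.beq (Nat.mod (Nat.div m (Nat.pow 3 i)) 3) (Nat.mod
          (Nat.add (Nat.div l (Nat.pow 3 i)) (Nat.mul s (Nat.div k (Nat.pow 3 i)))) 3))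
        (anyLT 4 fun t => allLT 4 fun i =>
          Nat.beq (ufD z i) (ufM t (Nat.xor (ufD y i) (ufM r (ufD x i)))))))))) = true := by
  decide +kernel

theorem isI_five_of_isU (h : IsU D 4) : IsI D 5 := by
  obtain ⟨τ, h⟩ := h
  have h1 := uf_mem
  have h2 := uf_surj
  have h3 := uf_pair
  simp only [allLT_iff, or'_eq_true, not'_eq_true, and'_eq_true, beq_iff, force_eq, anyLT_iff,
    ufP_iff, ite'_eq, blt_iff, ← ufQ_iff, uf_mod3, Nat.add_eq, Nat.mul_eq, Nat.cast_add,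
    Nat.cast_mul, ← ufB_eq] at h1 h2 h3
  have h0 : ufV 0 = 0 := by decide
  refine ⟨τ ∘ ufMap, uf_stdQ_nondeg 5, h.coord.of_map ufMap (fun v hv h0 => ?_)
    (fun u hu v hv => ?_) (fun v hv => ?_) (fun u hu v hv => ?_) (fun w hw => ?_)
    fun u hu v hv => ?_⟩
  · rw [h0, Set.mem_ofPred_eq, map_zero] at hv
    exact absurd hv (by decide)
  · rw [Set.mem_ofPred_eq] at hu hv ⊢
    rw [QuadraticMap.map_add (stdQ 5), QuadraticMap.map_smul, QuadraticMap.polar_smul_right, hu,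
      hv]
    generalize QuadraticMap.polar (stdQ 5) v u = t
    revert t
    decide
  · obtain ⟨k, hk, rfl⟩ := ufW_surj v
    obtain ⟨h4, h5⟩ := (h1 k hk).resolve_left (not_not.2 hv)
    rw [ufMap_W hk]
    exact ⟨fun e => h4 ⟨0, by rw [e, zero_smul]⟩, by rw [ufH_eq, h5]; rfl⟩
  · obtain ⟨k, hk, rfl⟩ := ufW_surj u
    obtain ⟨l, hl, rfl⟩ := ufW_surj v
    have h4 := (((h3 k hk).resolve_left (not_not.2 hu) l hl).resolve_left (not_not.2 hv)).1
    rw [ufMap_W hk, ufMap_W hl, ← ufP3_iff]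
    split_ifs at h4 with h5
    · exact iff_of_true h5 h4
    · exact iff_of_false h5 ((not'_eq_true _).1 h4)
  · obtain ⟨x, hx, rfl⟩ := ufV_surj w
    obtain ⟨k, hk, h4, h5⟩ := ((h2 x hx).resolve_left fun e => hw.1 (by rw [e, h0])).resolve_left
      (not_not.2 ((ufG_inj (ufH_lt _ _) (by norm_num)).1 ((ufH_eq x x).symm.trans hw.2)))
    exact ⟨_, h4, by rwa [ufMap_W hk]⟩
  · obtain ⟨k, hk, rfl⟩ := ufW_surj u
    obtain ⟨l, hl, rfl⟩ := ufW_surj v
    obtain ⟨-, h4, h5, t, ht, h6⟩ :=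
      ((h3 k hk).resolve_left (not_not.2 hu) l hl).resolve_left (not_not.2 hv)
    refine ⟨ufG t, ?_⟩
    generalize _ + 81 * _ = m at h4 h5 h6
    rw [← show ufW m = ufW l + QuadraticMap.polar (stdQ 5) (ufW l) (ufW k) • ufW k from
      funext fun i => h5 i i.2, ufMap_W h4, ufMap_W hk, ufMap_W hl, ufH_eq]
    funext i
    simp only [ufV, Pi.smul_apply, Pi.add_apply, smul_eq_mul]
    rw [h6 i i.2, ufG_mul ht (uf_xor_lt (ufD_lt _ _) (ufM_lt _ _)),
      ufG_xor (ufD_lt _ _) (ufM_lt _ _), ufG_mul (ufH_lt _ _) (ufD_lt _ _)]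

end Cfsg.Agent.TT
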