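import Mathlib
import Cfsg.Agent.TT.Models
import Cfsg.Agent.TT.FamU
import Cfsg.Agent.S2164

/-! The transvections form the only generating set of 3-transpositions of `PSU(6, 2)`. -/

set_option autoImplicit false

namespace Cfsg.Agent.TT

open Subgroup Matrix Cfsg.Agent.Class

namespace TY

instance charP_GF4 : CharP GF4 2 := by
  have : CharP GF4 2 := charP_of_injective_algebraMap (algebraMap (ZMod 2) GF4).injective 2
  exact this

abbrev M6 : Type := Matrix (Fin 6) (Fin 6) GF4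

/-- An involution of `SU(6, 2)` from a matrix. -/
theorem exists_SU (M : M6) (h1 : M * M = 1) (h2 : Mᵀ * M.map (fun x => x ^ 2) = 1) :
    ∃ g : SU 6 GF4 2, ((g : Matrix.SpecialLinearGroup (Fin 6) GF4) : M6) = M := by
  have : U.UF GF4 2 := U.UF.of_card card_GF4
  have hd : M.det = 1 := by
    have h3 : M.det * M.det = 1 := by rw [← det_mul, h1, det_one]
    revert h3
    generalize M.det = c
    revert c
    decide
  exact ⟨U.mkSU M (U.pres_iff.2 h2) hd, rfl⟩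

theorem rank_eq {r : ℕ} (A : M6) (B : Matrix (Fin 6) (Fin r) GF4) (C : Matrix (Fin r) (Fin 6) GF4)
    (P : Matrix (Fin r) (Fin 6) GF4) (Q : Matrix (Fin 6) (Fin r) GF4) (h1 : A = B * C)
    (h2 : P * A * Q = 1) : A.rank = r := by
  refine le_antisymm ?_ ?_
  · rw [h1]
    exact (rank_mul_le_left B C).trans (by simpa using rank_le_width B)
  · have := (rank_mul_le_left (P * A) Q).trans (rank_mul_le_right P A)
    rwa [h2, rank_one, Fintype.card_fin] at this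

theorem rank_le_three (A : M6) (h : A * A = 0) : A.rank ≤ 3 := by
  have := rank_add_rank_le_card_of_mul_eq_zero h
  simp only [Fintype.card_fin] at this
  omega

def om : GF4 := ⟨0, 1⟩
def om2 : GF4 := ⟨1, 1⟩

def x2 : M6 := !![0,1,0,0,0,0; 1,0,0,0,0,0; 0,0,0,1,0,0; 0,0,1,0,0,0; 0,0,0,0,1,0; 0,0,0,0,0,1]
def y2 : M6 := !![1,0,0,0,0,0; 0,0,1,0,0,0; 0,1,0,0,0,0; 0,0,0,0,1,0; 0,0,0,1,0,0; 0,0,0,0,0,1]
def x3 : M6 := !![0,1,0,0,0,0; 1,0,0,0,0,0; 0,0,0,1,0,0; 0,0,1,0,0,0; 0,0,0,0,0,1; 0,0,0,0,1,0]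
def y3 : M6 :=
  !![0,0,0,0,0,1; 0,0,om2,0,0,0; 0,om,0,0,0,0; 0,0,0,0,1,0; 0,0,0,1,0,0; 1,0,0,0,0,0]

theorem rx2 : (x2 - 1).rank = 2 :=
  rank_eq _ !![1,0; 1,0; 0,1; 0,1; 0,0; 0,0] !![1,1,0,0,0,0; 0,0,1,1,0,0]
    !![1,0,0,0,0,0; 0,0,1,0,0,0] !![1,0; 0,0; 0,1; 0,0; 0,0; 0,0] (by decide +kernel)
    (by decide +kernel)

theorem ry2 : (y2 - 1).rank = 2 :=
  rank_eq _ !![0,0; 1,0; 1,0; 0,1; 0,1; 0,0] !![0,1,1,0,0,0; 0,0,0,1,1,0]
    !![0,1,0,0,0,0; 0,0,0,1,0,0] !![0,0; 1,0; 0,0; 0,1; 0,0; 0,0] (by decide +kernel)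
    (by decide +kernel)

theorem rx3 : (x3 - 1).rank = 3 :=
  rank_eq _ !![1,0,0; 1,0,0; 0,1,0; 0,1,0; 0,0,1; 0,0,1] !![1,1,0,0,0,0; 0,0,1,1,0,0; 0,0,0,0,1,1]
    !![1,0,0,0,0,0; 0,0,1,0,0,0; 0,0,0,0,1,0] !![1,0,0; 0,0,0; 0,1,0; 0,0,0; 0,0,1; 0,0,0]
    (by decide +kernel) (by decide +kernel)

theorem ry3 : (y3 - 1).rank = 3 :=
  rank_eq _ !![1,0,0; 0,1,0; 0,om,0; 0,0,1; 0,0,1; 1,0,0]
    !![1,0,0,0,0,1; 0,1,om2,0,0,0; 0,0,0,1,1,0]
    !![1,0,0,0,0,0; 0,1,0,0,0,0; 0,0,0,1,0,0] !![1,0,0; 0,1,0; 0,0,0; 0,0,1; 0,0,0; 0,0,0]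
    (by decide +kernel) (by decide +kernel)

/-- Two involutions of the same rank whose product has large order modulo the centre. -/
theorem exists_bad {x y : M6} (hx : x * x = 1) (hx' : xᵀ * x.map (fun t => t ^ 2) = 1)
    (hy : y * y = 1) (hy' : yᵀ * y.map (fun t => t ^ 2) = 1) (hx1 : x ≠ 1) (hy1 : y ≠ 1)
    (h2 : (x * y) ^ 2 * x ≠ x * (x * y) ^ 2) (h3 : (x * y) ^ 3 * x ≠ x * (x * y) ^ 3) :
    ∃ a b : SU 6 GF4 2, ((a : Matrix.SpecialLinearGroup (Fin 6) GF4) : M6) = x ∧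
      ((b : Matrix.SpecialLinearGroup (Fin 6) GF4) : M6) = y ∧ orderOf a = 2 ∧ orderOf b = 2 ∧
      (a * b) ^ 2 ∉ center (SU 6 GF4 2) ∧ (a * b) ^ 3 ∉ center (SU 6 GF4 2) := by
  obtain ⟨a, rfl⟩ := exists_SU x hx hx'
  obtain ⟨b, rfl⟩ := exists_SU y hy hy'
  have ho : ∀ c : SU 6 GF4 2, ((c : Matrix.SpecialLinearGroup (Fin 6) GF4) : M6) *
      ((c : Matrix.SpecialLinearGroup (Fin 6) GF4) : M6) = 1 →
      ((c : Matrix.SpecialLinearGroup (Fin 6) GF4) : M6) ≠ 1 → orderOf c = 2 := fun c h h' =>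
    orderOf_eq_prime (by
      apply Subtype.ext; apply Subtype.ext
      simpa [sq] using h) (by rintro rfl; exact h' rfl)
  refine ⟨a, b, rfl, rfl, ho a hx hx1, ho b hy hy1, fun h => h2 ?_, fun h => h3 ?_⟩
  · have := congrArg (fun c : SU 6 GF4 2 => ((c : Matrix.SpecialLinearGroup (Fin 6) GF4) : M6))
      (mem_center_iff.1 h a)
    simpa using this.symm
  · have := congrArg (fun c : SU 6 GF4 2 => ((c : Matrix.SpecialLinearGroup (Fin 6) GF4) : M6))
      (mem_center_iff.1 h a)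
    simpa using this.symm

theorem exists_bad_rank {r : ℕ} (hr : r = 2 ∨ r = 3) :
    ∃ a b : SU 6 GF4 2, (((a : Matrix.SpecialLinearGroup (Fin 6) GF4) : M6) - 1).rank = r ∧
      (((b : Matrix.SpecialLinearGroup (Fin 6) GF4) : M6) - 1).rank = r ∧ orderOf a = 2 ∧
      orderOf b = 2 ∧ (a * b) ^ 2 ∉ center (SU 6 GF4 2) ∧ (a * b) ^ 3 ∉ center (SU 6 GF4 2) := by
  rcases hr with rfl | rfl
  · obtain ⟨a, b, ha, hb, h⟩ := exists_bad (x := x2) (y := y2) (by decide +kernel)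
      (by decide +kernel) (by decide +kernel) (by decide +kernel) (by decide +kernel)
      (by decide +kernel) (by decide +kernel) (by decide +kernel)
    exact ⟨a, b, ha ▸ rx2, hb ▸ ry2, h⟩
  · obtain ⟨a, b, ha, hb, h⟩ := exists_bad (x := x3) (y := y3) (by decide +kernel)
      (by decide +kernel) (by decide +kernel) (by decide +kernel) (by decide +kernel)
      (by decide +kernel) (by decide +kernel) (by decide +kernel)
    exact ⟨a, b, ha ▸ rx3, hb ▸ ry3, h⟩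

theorem exists_lift {e : PSU 6 GF4 2} (he : orderOf e = 2) :
    ∃ g : SU 6 GF4 2, orderOf g = 2 ∧ (g : PSU 6 GF4 2) = e := by
  have : U.UF GF4 2 := U.UF.of_card card_GF4
  obtain ⟨g, rfl⟩ := QuotientGroup.mk_surjective e
  have h2 : ((g : PSU 6 GF4 2)) ^ 2 = 1 :=
    orderOf_dvd_iff_pow_eq_one.1 he.dvd
  have hz : g ^ 2 ∈ center (SU 6 GF4 2) := by
    rw [← QuotientGroup.eq_one_iff, QuotientGroup.mk_pow]; exact h2
  have hc : Nat.card (center (SU 6 GF4 2)) = 3 := U.card_center (by norm_num)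
  have h6 : (g ^ 3) ^ 2 = 1 := by
    have := pow_card_eq_one' (x := (⟨g ^ 2, hz⟩ : center (SU 6 GF4 2)))
    rw [hc] at this
    have h := congrArg Subtype.val this
    simp only [SubmonoidClass.mk_pow, OneMemClass.coe_one] at h
    rw [← pow_mul] at h ⊢
    exact h
  have h3 : ((g ^ 3 : SU 6 GF4 2) : PSU 6 GF4 2) = g := by
    rw [QuotientGroup.mk_pow, pow_succ, h2, one_mul]
  refine ⟨g ^ 3, orderOf_eq_prime h6 fun h => ?_, h3⟩
  rw [h] at h3
  rw [← h3] at he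
  simp at he

end TY

open TY in
/-- A normal set of 3-transpositions of `PSU(6, 2)` consists of transvections. -/
theorem subset_psuD {E : Set (PSU 6 GF4 2)} (hE : IsThreeTranspositionSet E)
    (hc : ∀ g, ∀ e ∈ E, g * e * g⁻¹ ∈ E) : E ⊆ psuD 6 := by
  intro e he
  obtain ⟨g, hg, rfl⟩ := exists_lift (hE.1 e he)
  set A := ((g : Matrix.SpecialLinearGroup (Fin 6) GF4) : M6) with hA
  have hAA : A * A = 1 := by
    have := congrArg (fun c : SU 6 GF4 2 => ((c : Matrix.SpecialLinearGroup (Fin 6) GF4) : M6))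
      (pow_orderOf_eq_one g)
    simpa [hg, sq] using this
  have h3 : (A - 1).rank ≤ 3 := rank_le_three _ (by
    have h2 : (2 : M6) = 0 := by decide +kernel
    have : (A - 1) * (A - 1) = A * A + 1 - 2 * A := by noncomm_ring
    rw [this, hAA, h2, zero_mul, sub_zero, one_add_one_eq_two, h2])
  have h0 : (A - 1).rank ≠ 0 := fun h => by
    have h1 : A - 1 = 0 := by
      have := (Submodule.finrank_eq_zero (R := GF4)).1 h
      rw [LinearMap.range_eq_bot] at this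
      exact Matrix.toLin'.injective (by rw [map_zero, Matrix.toLin'_apply']; exact this)
    have : g = 1 := by
      apply Subtype.ext; apply Subtype.ext
      simpa using sub_eq_zero.1 h1
    rw [this] at hg
    simp at hg
  by_cases h1 : (A - 1).rank = 1
  · exact ⟨g, h1, rfl⟩
  exfalso
  obtain ⟨a, b, ha, hb, oa, ob, n2, n3⟩ := exists_bad_rank (r := (A - 1).rank) (by omega)
  have hm : ∀ c : SU 6 GF4 2, orderOf c = 2 →
      (((c : Matrix.SpecialLinearGroup (Fin 6) GF4) : M6) - 1).rank = (A - 1).rank →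
      (c : PSU 6 GF4 2) ∈ E := fun c oc hc' => by
    obtain ⟨u, hu⟩ := isConj_iff.1
      ((S2164.result (q := 2) card_GF4 (by norm_num) g c hg oc).2.2 hc'.symm)
    rw [← hu]
    exact hc u _ he
  rcases hE.2 _ (hm a oa ha) _ (hm b ob hb) with h | h
  · exact n2 (by rw [← QuotientGroup.eq_one_iff, QuotientGroup.mk_pow]; exact h)
  · exact n3 (by rw [← QuotientGroup.eq_one_iff, QuotientGroup.mk_pow]; exact h)

/-- The transvections are the only generating set of 3-transpositions of `PSU(6, 2)`. -/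
theorem eq_psuD {E : Set (PSU 6 GF4 2)} (hE : IsTT E) (hg : closure E = ⊤) : E = psuD 6 := by
  have hc : ∀ g, ∀ e ∈ E, g * e * g⁻¹ ∈ E := fun g e he => hE.conj_mem (hg ▸ mem_top g) he
  have h1 := subset_psuD hE.tt hc
  obtain ⟨hU, hg', -⟩ := psuD_model (n := 6) (by norm_num)
  refine h1.antisymm fun x hx => ?_
  rcases E.eq_empty_or_nonempty with rfl | ⟨e, he⟩
  · rw [Subgroup.closure_empty] at hg
    exact absurd (mem_bot.1 (hg ▸ mem_top x)) (ne_one hU.tt.tt hx)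
  · obtain ⟨g, -, rfl⟩ := hU.conn e (h1 he) x hx
    exact hc g e he

end Cfsg.Agent.TT
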