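import Mathlib
import Cfsg.Agent.TT.RowInv23
import Cfsg.Agent.TT.RowCent
import Cfsg.Agent.PLocal.Thompson

/-! Squares, bases and Thompson subgroups in groups of type `M(22)`, `M(23)`. -/

set_option autoImplicit false

namespace Cfsg.Agent.TT

open Subgroup

variable {G : Type*} [Group G] {D : Set G}

theorem Prim.not_sq [Finite G] (h : Prim D) (hm : MuInj D) (hg : closure D = ⊤) (hZ : center G = ⊥)
    {d : G} (hd : d ∈ D) (hc : centralizer ({d} : Set G) = closure (TT.loc D d))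
    (hl : ∀ x ∈ closure (TT.loc D d), SameOn (TT.loc D d) (x * x) 1 →
      ∃ l, CL (TT.loc D d) l ∧ SameOn (TT.loc D d) x l.prod) : ¬ ∃ g : G, g ^ 2 = d := by
  rintro ⟨g, hgd⟩
  have hgc : g ∈ closure (TT.loc D d) := by
    rw [← hc, mem_centralizer_singleton_iff, ← hgd]; group
  obtain ⟨l, hl, hs⟩ := hl g hgc (by
    rw [← sq, hgd]; exact SameOn.one_iff.2 fun w hw => hw.2.2)
  have h1 : l.prod * l.prod = 1 := hl.prod_sq (h.toIsTT.loc d)
  have h2 : Commute d l.prod := CL.commute_prod fun a ha => (hl.mem a ha).2.2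
  apply ne_one h.tt hd
  rcases h.sameOn_lift hm hd (hg ▸ mem_top _) (hg ▸ mem_top _) hs with e | e
  · rw [← hgd, e.eq hg hZ, sq, h1]
  · rw [← hgd, e.eq hg hZ, sq, mul_assoc, ← mul_assoc d, h2.eq, mul_assoc, h.toIsTT.sq hd, mul_one, h1]

theorem M22g.not_sq [Finite G] (h : M22g D) (hg : closure D = ⊤) (hZ : center G = ⊥) {d : G}
    (hd : d ∈ D) : ¬ ∃ g : G, g ^ 2 = d :=
  h.1.not_sq h.muInj hg hZ hd (h.centralizer_eq hg hZ hd) fun _ hx h2 =>
    ((h.2.1 d hd).exists_CL_of_sq hx h2).imp fun _ e => ⟨e.1, e.2.2⟩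

theorem M23g.not_sq [Finite G] (h : M23g D) (hg : closure D = ⊤) (hZ : center G = ⊥) {d : G}
    (hd : d ∈ D) : ¬ ∃ g : G, g ^ 2 = d :=
  h.1.not_sq h.muInj hg hZ hd (h.centralizer_eq hg hZ hd) fun _ hx h2 =>
    ((h.2.1 d hd).exists_CL_of_sq hx h2).imp fun _ e => ⟨e.1, e.2.2⟩

theorem lift_involution [Finite G] {d : G} (hd : orderOf d = 2) (hs : ¬ ∃ g : G, g ^ 2 = d) (C : Subgroup G)
    [((zpowers d).subgroupOf C).Normal] (x : C ⧸ (zpowers d).subgroupOf C) (hx : orderOf x = 2) :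
    ∃ y : C, orderOf y = 2 ∧ (QuotientGroup.mk y : C ⧸ (zpowers d).subgroupOf C) = x := by
  classical
  obtain ⟨y, rfl⟩ := QuotientGroup.mk_surjective x
  refine ⟨y, orderOf_eq_prime ?_ ?_, rfl⟩
  · have h1 : ((y ^ 2 : C) : C ⧸ (zpowers d).subgroupOf C) = 1 := by
      rw [QuotientGroup.mk_pow, ← hx, pow_orderOf_eq_one]
    rw [QuotientGroup.eq_one_iff, mem_subgroupOf, mem_zpowers_iff_mem_range_orderOf, hd] at h1
    simp only [Finset.mem_image, Finset.mem_range] at h1
    obtain ⟨k, hk, e⟩ := h1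
    interval_cases k
    · exact Subtype.ext (by simpa using e.symm)
    · exact absurd ⟨y, by simpa using e.symm⟩ hs
  · rintro rfl
    simp at hx

section Base

variable [DecidableEq G]

omit [DecidableEq G] in
theorem cl_toList {E s : Finset G} (hE : ∀ a ∈ E, a ∈ D) (hc : ∀ a ∈ E, ∀ b ∈ E, Commute a b)
    (hs : s ⊆ E) : CL D s.toList :=
  ⟨s.nodup_toList, fun a ha => hE a (hs (Finset.mem_toList.1 ha)), fun a ha b hb =>
    hc a (hs (Finset.mem_toList.1 ha)) b (hs (Finset.mem_toList.1 hb))⟩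

variable [Finite G]

theorem PrimTo.card_image_prod {k j : ℕ} (h : PrimTo k D) {E : Finset G} (hE : ∀ a ∈ E, a ∈ D)
    (hc : ∀ a ∈ E, ∀ b ∈ E, Commute a b) (hj : j ≤ k + 1) (h3 : j ≤ 3) :
    ((E.powersetCard j).image fun s => s.toList.prod).card = E.card.choose j := by
  rw [Finset.card_image_of_injOn, Finset.card_powersetCard]
  have key : ∀ s ∈ E.powersetCard j, ∀ t ∈ E.powersetCard j, s.toList.prod = t.toList.prod →
      t ⊆ s := fun s hs t ht e a ha => by
    rw [Finset.mem_powersetCard] at hs ht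
    exact Finset.mem_toList.1 (h.subset_of_sameOn (cl_toList hE hc hs.1) (cl_toList hE hc ht.1)
      (by rw [Finset.length_toList]; omega) (by rw [Finset.length_toList]; omega) (.of_eq e)
      (Finset.mem_toList.2 ha))
  exact fun s hs t ht e => (key t ht s hs e.symm).antisymm (key s hs t ht e)

theorem PrimTo.sum_le_card {k : ℕ} (h : PrimTo k D) (hk : 1 ≤ k) {E : Finset G}
    (hE : ∀ a ∈ E, a ∈ D) (hc : ∀ a ∈ E, ∀ b ∈ E, Commute a b) :
    ∑ j ∈ Finset.range 4, ((E.powersetCard j).image fun s => s.toList.prod).card ≤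
      Nat.card (closure (E : Set G)) := by
  rw [← Finset.card_biUnion]
  · rw [← Set.ncard_coe_finset, ← SetLike.coe_sort_coe, Nat.card_coe_set_eq]
    refine Set.ncard_le_ncard ?_ (Set.toFinite _)
    intro x hx
    simp only [Finset.coe_biUnion, Set.mem_iUnion, Finset.coe_image] at hx
    obtain ⟨j, -, s, hs, rfl⟩ := hx
    exact list_prod_mem fun a ha => subset_closure
      ((Finset.mem_powersetCard.1 hs).1 (Finset.mem_toList.1 ha))
  · intro i hi j hj hij
    simp only [Finset.coe_range, Set.mem_Iio] at hi hj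
    rw [Function.onFun, Finset.disjoint_left]
    intro x hx hx'
    obtain ⟨s, hs, rfl⟩ := Finset.mem_image.1 hx
    obtain ⟨t, ht, e⟩ := Finset.mem_image.1 hx'
    rw [Finset.mem_powersetCard] at hs ht
    have := h.length_eq (cl_toList hE hc hs.1) (cl_toList hE hc ht.1)
      (by rw [Finset.length_toList]; omega) (by rw [Finset.length_toList]; omega)
      (by rw [Finset.length_toList]; omega) (by rw [Finset.length_toList]; omega) (.of_eq e.symm)
    rw [Finset.length_toList, Finset.length_toList] at this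
    omega

theorem M23g.le_card_base (h : M23g D) {E : Finset G} (hE : ∀ a ∈ E, a ∈ D)
    (hc : ∀ a ∈ E, ∀ b ∈ E, Commute a b) (h23 : E.card = 23) :
    2 ^ 11 ≤ Nat.card (closure (E : Set G)) := by
  refine le_trans ?_ (h.primTo.sum_le_card (by omega) hE hc)
  rw [Finset.sum_congr rfl fun j hj => h.primTo.card_image_prod hE hc
    (by have := Finset.mem_range.1 hj; omega) (by have := Finset.mem_range.1 hj; omega), h23]
  decide

theorem M22g.le_card_base (h : M22g D) {E : Finset G} (hE : ∀ a ∈ E, a ∈ D)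
    (hc : ∀ a ∈ E, ∀ b ∈ E, Commute a b) (h22 : E.card = 22) :
    2 ^ 10 ≤ Nat.card (closure (E : Set G)) := by
  refine le_trans ?_ (h.primTo.sum_le_card (by omega) hE hc)
  have h3 : (E.powersetCard 3).card ≤
      2 * ((E.powersetCard 3).image fun s => s.toList.prod).card := by
    refine Finset.card_le_mul_card_image _ 2 fun x hx => ?_
    obtain ⟨s, hs, rfl⟩ := Finset.mem_image.1 hx
    rw [Finset.mem_powersetCard] at hs
    obtain ⟨a, b, c, e⟩ := List.length_eq_three.1 ((Finset.length_toList s).trans hs.2)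
    obtain ⟨d, e', f, h1, -, h2⟩ := h.exists_hexad (e ▸ cl_toList hE hc hs.1)
    refine le_trans (Finset.card_le_card (t := {[a, b, c].toFinset, [d, e', f].toFinset}) ?_)
      Finset.card_le_two
    intro t ht
    rw [Finset.mem_filter, Finset.mem_powersetCard] at ht
    rcases h.factor_cases h1 h2 (cl_toList hE hc ht.1.1) ((Finset.length_toList t).trans ht.1.2)
      (.of_eq (ht.2.trans (by rw [e]))) with p | p
    · rw [← List.toFinset_eq_of_perm _ _ p]; simp
    · rw [← List.toFinset_eq_of_perm _ _ p]; simp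
  rw [Finset.sum_range_succ, Finset.sum_congr rfl fun j hj => h.primTo.card_image_prod hE hc
    (by have := Finset.mem_range.1 hj; omega) (by have := Finset.mem_range.1 hj; omega), h22]
  rw [Finset.card_powersetCard, h22] at h3
  have e1 : ∑ j ∈ Finset.range 3, Nat.choose 22 j = 254 := by decide
  have e2 : Nat.choose 22 3 = 1540 := by decide
  omega

end Base

theorem IsTT.isEA_closure (hD : IsTT D) {E : Set G} (hE : E ⊆ D)
    (hc : ∀ a ∈ E, ∀ b ∈ E, Commute a b) : IsElementaryAbelian 2 (closure E) := by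
  have hcc : ∀ x ∈ closure E, ∀ y ∈ closure E, Commute x y := fun x hx y hy =>
    commute_of_mem_closure (fun b hb => (commute_of_mem_closure (fun a ha => hc b hb a ha) hx).symm) hy
  refine ⟨⟨⟨fun x y => Subtype.ext (hcc _ x.2 _ y.2)⟩⟩, fun x hx => ?_⟩
  induction hx using closure_induction with
  | mem a ha => rw [pow_two, hD.sq (hE ha)]
  | one => simp
  | mul a b ha hb iha ihb => rw [(hcc a ha b hb).mul_pow, iha, ihb, mul_one]
  | inv a _ iha => rw [inv_pow, iha, inv_one]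

theorem IsTT.isEA_inter (hD : IsTT D) {P : Subgroup G} (hP : IsPGroup 2 P) :
    IsElementaryAbelian 2 (closure (D ∩ P)) :=
  hD.isEA_closure Set.inter_subset_left fun _ ha _ hb =>
    commute_of_mul_mem_pgroup hD.tt (by decide) hP ha.1 hb.1 (mul_mem ha.2 hb.2)

/-- A `2`-subgroup containing an elementary abelian subgroup of the largest order has only one. -/
theorem IsTT.eq_closure_inter [Finite G] (hD : IsTT D) {m : ℕ}
    (ea : ∀ B : Subgroup G, IsElementaryAbelian 2 B →
      Nat.card B ≤ 2 ^ m ∧ (Nat.card B = 2 ^ m → B = closure (D ∩ B)))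
    {P B : Subgroup G} (hP : IsPGroup 2 P) (hBP : B ≤ P) (hB : IsElementaryAbelian 2 B)
    (hc : Nat.card B = 2 ^ m) : B = closure (D ∩ P) := by
  refine eq_of_le_of_card_ge ?_ (hc ▸ (ea _ (hD.isEA_inter hP)).1)
  rw [(ea B hB).2 hc]
  exact closure_mono (Set.inter_subset_inter_right _ hBP)

theorem thompson_of_ea [Finite G] {d : G} (hD : IsTT (conjugatesOf d)) {m w : ℕ}
    (ea : ∀ B : Subgroup G, IsElementaryAbelian 2 B →
      Nat.card B ≤ 2 ^ m ∧ (Nat.card B = 2 ^ m → B = closure (conjugatesOf d ∩ B)))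
    (hw : HasWidth (conjugatesOf d) w) (hw0 : w ≠ 0)
    (hb : ∀ E : Finset G, (∀ a ∈ E, a ∈ conjugatesOf d) → (∀ a ∈ E, ∀ b ∈ E, Commute a b) →
      E.card = w → 2 ^ m ≤ Nat.card (closure (E : Set G)))
    (S : Sylow 2 (centralizer ({d} : Set G))) (A : Subgroup G)
    (hA : A = (thompsonSubgroupOf 2 (S : Subgroup (centralizer ({d} : Set G)))).map
      (centralizer ({d} : Set G)).subtype) :
    IsElementaryAbelian 2 A ∧ Nat.card A = 2 ^ m ∧ Set.ncard {x : G | x ∈ A ∧ IsConj d x} = w ∧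
      ∀ x ∈ A, ∀ y ∈ A, IsConj d x → IsConj d y →
        ∃ n ∈ normalizer (A : Set G), n * x * n⁻¹ = y := by
  classical
  have : Fact (Nat.Prime 2) := ⟨Nat.prime_two⟩
  have hcj : ∀ (g : G), ∀ x ∈ conjugatesOf d, g * x * g⁻¹ ∈ conjugatesOf d := fun g x hx =>
    IsConj.trans hx (isConj_iff.2 ⟨g, rfl⟩)
  have pea : ∀ {B : Subgroup G}, IsElementaryAbelian 2 B → IsPGroup 2 B := fun hB x =>
    ⟨1, Subtype.ext (by simpa using hB.2 x x.2)⟩
  -- two `2`-subgroups of `C(y)` are conjugate into one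
  have syl : ∀ (y : G) (T : Sylow 2 (centralizer ({y} : Set G))) (B : Subgroup G),
      IsElementaryAbelian 2 B → B ≤ centralizer {y} → ∃ c ∈ centralizer ({y} : Set G),
        B.map (MulAut.conj c).toMonoidHom ≤ (T : Subgroup _).map (centralizer ({y} : Set G)).subtype := by
    intro y T B hB hBy
    obtain ⟨U, hU⟩ := ((pea hB).comap_subtype (K := centralizer ({y} : Set G))).exists_le_sylow
    obtain ⟨c, rfl⟩ := MulAction.exists_smul_eq (centralizer ({y} : Set G)) U T
    refine ⟨c, c.2, ?_⟩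
    rintro _ ⟨b, hb, rfl⟩
    refine ⟨c * ⟨b, hBy hb⟩ * c⁻¹, ?_, by simp⟩
    rw [SetLike.mem_coe, Sylow.coe_subgroup_smul, mem_pointwise_smul_iff_inv_smul_mem]
    simpa [mul_assoc] using hU (show (⟨b, hBy hb⟩ : centralizer ({y} : Set G)) ∈ B.comap _ from hb)
  have eac : ∀ (B : Subgroup G) (g : G), IsElementaryAbelian 2 B →
      IsElementaryAbelian 2 (B.map (MulAut.conj g).toMonoidHom) := by
    intro B g hB
    have := hB.1
    refine ⟨inferInstance, ?_⟩
    rintro _ ⟨b, hb, rfl⟩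
    rw [← map_pow, hB.2 b hb, map_one]
  have cc : ∀ (B : Subgroup G) (g : G),
      Nat.card (B.map (MulAut.conj g).toMonoidHom) = Nat.card B := fun B g =>
    card_map_of_injective (MulAut.conj g).injective
  obtain ⟨E, hE, hEf, hEc, hEw⟩ := hw.1
  obtain ⟨e, he⟩ := Set.nonempty_of_ncard_ne_zero (hEw ▸ hw0)
  obtain ⟨g, hg⟩ := isConj_iff.1 (IsConj.symm (hE he))
  have hB0 := hD.isEA_closure hE hEc
  have hc0 : Nat.card (closure E) = 2 ^ m := (ea _ hB0).1.antisymm (by
    simpa using hb hEf.toFinset (fun a ha => hE (by simpa using ha)) (by simpa using hEc)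
      (by rw [← hEw, Set.ncard_eq_toFinset_card E hEf]))
  obtain ⟨c, -, hc⟩ := syl d S _ (eac _ g hB0) (by
    rintro _ ⟨b, hb, rfl⟩
    rw [mem_centralizer_singleton_iff, ← hg]
    exact ((commute_conj_iff' g b e).2 (commute_of_mem_closure (fun a ha => hEc e he a ha) hb).symm).eq)
  set P := (S : Subgroup (centralizer ({d} : Set G))).map (centralizer ({d} : Set G)).subtype
  have hP : IsPGroup 2 P := S.2.map _
  have hB1 := eac _ c (eac _ g hB0)
  have hc1 := (cc _ c).trans ((cc _ g).trans hc0)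
  have e1 := hD.eq_closure_inter ea hP hc hB1 hc1
  have hAP : A = closure (conjugatesOf d ∩ P) := by
    rw [hA, PLocal.map_thompsonSubgroupOf _ (subtype_injective _)]
    have hm : closure (conjugatesOf d ∩ P) ∈ PLocal.maxEA 2 P :=
      ⟨(closure_le _).2 Set.inter_subset_right, hD.isEA_inter hP, fun B _ hB => by
        rw [← e1, hc1]; exact (ea B hB).1⟩
    refine le_antisymm (PLocal.thompsonSubgroupOf_le_iff.2 fun B hB => ?_)
      (PLocal.le_thompsonSubgroupOf hm)
    exact (hD.eq_closure_inter ea hP hB.1 hB.2.1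
      (by rw [PLocal.card_eq_of_mem_maxEA hB hm, ← e1, hc1])).le
  have hAe : IsElementaryAbelian 2 A := hAP ▸ hD.isEA_inter hP
  have hAc : Nat.card A = 2 ^ m := by rw [hAP, ← e1, hc1]
  have hAm : ∀ x ∈ A, ∀ y ∈ A, Commute x y := fun x hx y hy =>
    congrArg Subtype.val (hAe.1.1.1 ⟨x, hx⟩ ⟨y, hy⟩)
  refine ⟨hAe, hAc, le_antisymm (hw.2 ⟨_, fun x hx => hx.2, Set.toFinite _,
    fun x hx y hy => hAm x hx.1 y hy.1, rfl⟩) ?_, fun x hx y hy h1 h2 => ?_⟩
  · rw [← hEw]
    refine Set.ncard_le_ncard_of_injOn (fun x => c * (g * x * g⁻¹) * c⁻¹) (fun x hx => ⟨?_, ?_⟩)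
      (fun _ _ _ _ e => (conj_inj g).1 ((conj_inj c).1 e)) (Set.toFinite _)
    · rw [hAP, ← e1]; exact ⟨_, ⟨x, subset_closure hx, rfl⟩, rfl⟩
    · exact hcj c _ (hcj g _ (hE hx))
  obtain ⟨k, hk⟩ := isConj_iff.1 (h1.symm.trans h2)
  have hAy : A ≤ centralizer {y} := fun a ha =>
    mem_centralizer_singleton_iff.2 (hAm a ha y hy).eq
  obtain ⟨T, hT⟩ := ((pea hAe).comap_subtype (K := centralizer ({y} : Set G))).exists_le_sylow
  obtain ⟨c, hcy, hc⟩ := syl y T _ (eac _ k hAe) (by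
    rintro _ ⟨b, hb, rfl⟩
    rw [mem_centralizer_singleton_iff, ← hk]
    exact ((commute_conj_iff' k b x).2 (hAm b hb x hx)).eq)
  have f1 := hD.eq_closure_inter ea (T.2.map _) hc (eac _ c (eac _ k hAe))
    ((cc _ c).trans ((cc _ k).trans hAc))
  have f2 := hD.eq_closure_inter ea (T.2.map (centralizer ({y} : Set G)).subtype)
    (fun a ha => ⟨⟨a, hAy ha⟩, hT ha, rfl⟩) hAe hAc
  refine ⟨c * k, ?_, ?_⟩
  · refine mem_normalizer_fintype fun a ha => ?_
    rw [f2, ← f1]
    exact ⟨_, ⟨a, ha, rfl⟩, by simp [mul_assoc]⟩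
  · rw [mul_inv_rev, show c * k * x * (k⁻¹ * c⁻¹) = c * (k * x * k⁻¹) * c⁻¹ by group, hk,
      mem_centralizer_singleton_iff.1 hcy, mul_inv_cancel_right]

end Cfsg.Agent.TT
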