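import Mathlib
import Cfsg.Agent.TT.RowInv23
import Cfsg.Agent.S5345

/-! In type `M(23)` a base generates `2¹¹`, the unique largest elementary abelian subgroup of a
Sylow 2-subgroup containing it. -/

set_option autoImplicit false

namespace Cfsg.Agent.TT

open Subgroup

/-- The number of invariant subsets of size at most three of an involution. -/
theorem card_inv_subsets {α : Type*} [DecidableEq α] (X : Finset α) (σ : α → α)
    (h1 : ∀ x ∈ X, σ x ∈ X) (h2 : ∀ x ∈ X, σ (σ x) = x) :
    ∃ f t, f + 2 * t = X.card ∧ f = (X.filter fun x => σ x = x).card ∧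
      (X.powerset.filter fun s => s.card ≤ 3 ∧ ∀ x ∈ s, σ x ∈ s).card =
        1 + f + f.choose 2 + f.choose 3 + (1 + f) * t := by
  set F := X.filter fun x => σ x = x with hF
  set N := X.filter fun x => ¬ σ x = x with hN
  set Pr := N.image fun x => ({x, σ x} : Finset α) with hPr
  have hNσ : ∀ x ∈ N, σ x ∈ N := fun x hx => by
    obtain ⟨hx1, hx2⟩ := Finset.mem_filter.1 hx
    exact Finset.mem_filter.2 ⟨h1 x hx1, by rw [h2 x hx1]; exact fun e => hx2 e.symm⟩
  have hPrc : ∀ p ∈ Pr, p.card = 2 ∧ p ⊆ N ∧ ∀ x ∈ p, σ x ∈ p := fun p hp => by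
    obtain ⟨x, hx, rfl⟩ := Finset.mem_image.1 hp
    obtain ⟨hx1, hx2⟩ := Finset.mem_filter.1 hx
    refine ⟨Finset.card_pair fun e => hx2 e.symm, ?_, ?_⟩
    · intro y hy
      rcases Finset.mem_insert.1 hy with rfl | hy
      · exact hx
      · rw [Finset.mem_singleton.1 hy]; exact hNσ x hx
    · intro y hy
      rcases Finset.mem_insert.1 hy with rfl | hy
      · simp
      · rw [Finset.mem_singleton.1 hy, h2 x hx1]; simp
  have ht : N.card = 2 * Pr.card := by
    rw [Finset.card_eq_sum_card_image (fun x => ({x, σ x} : Finset α)) N, mul_comm, ← smul_eq_mul,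
      ← Finset.sum_const]
    refine Finset.sum_congr rfl fun p hp => ?_
    rw [← (hPrc p hp).1]
    congr 1
    ext y
    simp only [Finset.mem_filter]
    constructor
    · rintro ⟨-, rfl⟩; simp
    · intro hy
      have hyN := (hPrc p hp).2.1 hy
      refine ⟨hyN, Finset.eq_of_subset_of_card_le ?_ ?_⟩
      · intro z hz
        rcases Finset.mem_insert.1 hz with rfl | hz
        · exact hy
        · rw [Finset.mem_singleton.1 hz]; exact (hPrc p hp).2.2 y hy
      · rw [(hPrc p hp).1, Finset.card_pair fun e => (Finset.mem_filter.1 hyN).2 e.symm]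
  have hcard : ∀ k, (F.powerset.filter fun s => s.card ≤ k).card =
      ∑ i ∈ Finset.range (k + 1), F.card.choose i := fun k => by
    rw [Finset.card_eq_sum_card_fiberwise (f := Finset.card) (t := Finset.range (k + 1))]
    · refine Finset.sum_congr rfl fun i hi => ?_
      rw [← Finset.card_powersetCard, Finset.powersetCard_eq_filter, Finset.filter_filter]
      congr 1
      refine Finset.filter_congr fun s _ => ?_
      have := Finset.mem_range.1 hi
      omega
    · intro s hs
      have := (Finset.mem_filter.1 hs).2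
      exact Finset.mem_range.2 (by omega)
  have hFN : ∀ x ∈ F, x ∉ N := fun x hx hx' => (Finset.mem_filter.1 hx').2 (Finset.mem_filter.1 hx).2
  refine ⟨F.card, Pr.card, by rw [← ht]; exact Finset.card_filter_add_card_filter_not _, rfl, ?_⟩
  have e : (X.powerset.filter fun s => s.card ≤ 3 ∧ ∀ x ∈ s, σ x ∈ s) =
      (F.powerset.filter fun s => s.card ≤ 3) ∪
        ((F.powerset.filter fun s => s.card ≤ 1) ×ˢ Pr).image fun q => q.1 ∪ q.2 := by
    ext s
    simp only [Finset.mem_filter, Finset.mem_powerset, Finset.mem_union, Finset.mem_image,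
      Finset.mem_product, Prod.exists]
    constructor
    · rintro ⟨hs, h3, hσ⟩
      by_cases hsF : s ⊆ F
      · exact Or.inl ⟨hsF, h3⟩
      · right
        obtain ⟨x, hx, hxF⟩ := Finset.not_subset.1 hsF
        have hxN : x ∈ N := Finset.mem_filter.2 ⟨hs hx, fun e => hxF (Finset.mem_filter.2 ⟨hs hx, e⟩)⟩
        have hp : ({x, σ x} : Finset α) ∈ Pr := Finset.mem_image.2 ⟨x, hxN, rfl⟩
        have hsub : ({x, σ x} : Finset α) ⊆ s := by
          intro z hz
          rcases Finset.mem_insert.1 hz with rfl | hz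
          · exact hx
          · rw [Finset.mem_singleton.1 hz]; exact hσ x hx
        have hc : (s \ {x, σ x}).card ≤ 1 := by
          rw [Finset.card_sdiff_of_subset hsub, (hPrc _ hp).1]; omega
        refine ⟨s \ {x, σ x}, {x, σ x}, ⟨⟨fun y hy => ?_, hc⟩, hp⟩,
          Finset.sdiff_union_of_subset hsub⟩
        obtain ⟨hy1, hy2⟩ := Finset.mem_sdiff.1 hy
        refine Finset.mem_filter.2 ⟨hs hy1, Finset.card_le_one.1 hc _ (Finset.mem_sdiff.2
          ⟨hσ y hy1, fun h => hy2 ?_⟩) _ hy⟩
        have := (hPrc _ hp).2.2 _ h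
        rwa [h2 y (hs hy1)] at this
    · rintro (⟨hs, h3⟩ | ⟨u, p, ⟨⟨hu, h3⟩, hp⟩, rfl⟩)
      · exact ⟨hs.trans (Finset.filter_subset _ _), h3, fun x hx => by
          rwa [(Finset.mem_filter.1 (hs hx)).2]⟩
      · have hp' := hPrc p hp
        refine ⟨Finset.union_subset (hu.trans (Finset.filter_subset _ _))
          (hp'.2.1.trans (Finset.filter_subset _ _)), ?_, fun x hx => ?_⟩
        · have := Finset.card_union_le u p; omega
        · rcases Finset.mem_union.1 hx with hx | hx
          · exact Finset.mem_union_left _ (by rwa [(Finset.mem_filter.1 (hu hx)).2])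
          · exact Finset.mem_union_right _ (hp'.2.2 x hx)
  rw [e, Finset.card_union_of_disjoint, Finset.card_image_of_injOn, Finset.card_product, hcard,
    hcard]
  · simp [Finset.sum_range_succ]
  · rintro ⟨u, p⟩ hq ⟨u', p'⟩ hq' (e : u ∪ p = u' ∪ p')
    simp only [Finset.coe_product, Set.mem_prod, Finset.mem_coe, Finset.mem_filter,
      Finset.mem_powerset] at hq hq'
    have k : ∀ {u p u' p' : Finset α}, u ⊆ F → p ∈ Pr → u' ⊆ F → p' ∈ Pr → u ∪ p = u' ∪ p' →
        u ⊆ u' ∧ p ⊆ p' := fun {u p u' p'} hu hp hu' hp' e => ⟨fun x hx =>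
      (Finset.mem_union.1 (e ▸ Finset.mem_union_left p hx)).resolve_right
        fun h => hFN x (hu hx) ((hPrc _ hp').2.1 h), fun x hx =>
      (Finset.mem_union.1 (e ▸ Finset.mem_union_right u hx)).resolve_left
        fun h => hFN x (hu' h) ((hPrc _ hp).2.1 hx)⟩
    have k1 := k hq.1.1 hq.2 hq'.1.1 hq'.2 e
    have k2 := k hq'.1.1 hq'.2 hq.1.1 hq.2 e.symm
    exact Prod.ext (k1.1.antisymm k2.1) (k1.2.antisymm k2.2)
  · rw [Finset.disjoint_left]
    intro s hs hs'
    obtain ⟨⟨u, p⟩, hq, rfl⟩ := Finset.mem_image.1 hs'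
    have hp := hPrc p (Finset.mem_product.1 hq).2
    obtain ⟨x, hx⟩ := Finset.card_pos.1 (by rw [hp.1]; norm_num : 0 < p.card)
    exact hFN x (Finset.mem_powerset.1 (Finset.mem_filter.1 hs).1 (Finset.mem_union_right _ hx))
      (hp.2.1 hx)

variable {G : Type*} [Group G]

/-- A set of 23 commuting involutions whose relations form a perfect code. -/
structure Base23 (S : Finset G) : Prop where
  card : S.card = 23
  sq : ∀ s ∈ S, s * s = 1
  comm : ∀ s ∈ S, ∀ t ∈ S, Commute s t
  uniq : ∀ l l', CL (S : Set G) l → CL (S : Set G) l' → l.length ≤ 3 → l'.length ≤ 3 →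
    l.prod = l'.prod → ∀ x ∈ l', x ∈ l
  ex : ∀ x, x * x = 1 → (∀ s ∈ S, Commute x s) →
    ∃ l, CL (S : Set G) l ∧ l.length ≤ 3 ∧ l.prod = x

namespace Base23

variable {S : Finset G}

theorem commute_closure (h : Base23 S) {x : G} (hx : x ∈ closure (S : Set G)) {s : G}
    (hs : s ∈ S) : Commute x s := by
  induction hx using closure_induction with
  | mem y hy => exact h.comm y hy s hs
  | one => exact Commute.one_left s
  | mul y z _ _ hy hz => exact hy.mul_left hz
  | inv y _ hy => exact hy.inv_left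

theorem commute (h : Base23 S) {x y : G} (hx : x ∈ closure (S : Set G))
    (hy : y ∈ closure (S : Set G)) : Commute x y := by
  induction hy using closure_induction with
  | mem y hy => exact h.commute_closure hx hy
  | one => exact Commute.one_right x
  | mul y z _ _ hy hz => exact hy.mul_right hz
  | inv y _ hy => exact hy.inv_right

theorem mul_self (h : Base23 S) {x : G} (hx : x ∈ closure (S : Set G)) : x * x = 1 := by
  induction hx using closure_induction with
  | mem y hy => exact h.sq y hy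
  | one => exact mul_one 1
  | mul y z hy hz hy' hz' =>
    rw [mul_assoc, ← mul_assoc z, (h.commute hz hy).eq, mul_assoc, hz', mul_one, hy']
  | inv y _ hy => rw [← mul_inv_rev, hy, inv_one]

theorem isElementaryAbelian (h : Base23 S) : IsElementaryAbelian 2 (closure (S : Set G)) :=
  ⟨⟨⟨fun a b => Subtype.ext (h.commute a.2 b.2).eq⟩⟩, fun a ha => by rw [pow_two, h.mul_self ha]⟩

theorem mem_closure (h : Base23 S) {x : G} (h2 : x * x = 1) (hx : ∀ s ∈ S, Commute x s) :
    x ∈ closure (S : Set G) := by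
  obtain ⟨l, hl, -, rfl⟩ := h.ex x h2 hx
  exact hl.prod_mem

theorem cl_toList (h : Base23 S) {s : Finset G} (hs : s ⊆ S) : CL (S : Set G) s.toList :=
  ⟨s.nodup_toList, fun _ ha => hs (Finset.mem_toList.1 ha), fun _ ha _ hb =>
    h.comm _ (hs (Finset.mem_toList.1 ha)) _ (hs (Finset.mem_toList.1 hb))⟩

theorem cl_conj (h : Base23 S) {a : G} (ha : ∀ s ∈ S, a * s * a⁻¹ ∈ S) {l : List G}
    (hl : CL (S : Set G) l) : CL (S : Set G) (l.map fun x => a * x * a⁻¹) := by
  have hm : ∀ y ∈ l.map fun x => a * x * a⁻¹, y ∈ S := fun y hy => by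
    obtain ⟨x, hx, rfl⟩ := List.mem_map.1 hy
    exact ha x (hl.mem x hx)
  exact ⟨hl.nodup.map fun x y e => by simpa using e, hm,
    fun x hx y hy => h.comm x (hm x hx) y (hm y hy)⟩

/-- An element commuting with a short product permutes the factors. -/
theorem conj_mem (h : Base23 S) {a : G} (ha : ∀ s ∈ S, a * s * a⁻¹ ∈ S) {l : List G}
    (hl : CL (S : Set G) l) (h3 : l.length ≤ 3) (hc : Commute a l.prod) {x : G} (hx : x ∈ l) :
    a * x * a⁻¹ ∈ l :=
  h.uniq l _ hl (h.cl_conj ha hl) h3 (by simpa using h3)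
    (by rw [prod_map_conj, hc.eq, mul_inv_cancel_right]) _ (List.mem_map.2 ⟨x, hx, rfl⟩)

open Classical in
theorem card_centralizer (h : Base23 S) {a : G} (ha : ∀ s ∈ S, a * s * a⁻¹ ∈ S) :
    Nat.card (closure (S : Set G) ⊓ centralizer {a} : Subgroup G) =
      (S.powerset.filter fun s => s.card ≤ 3 ∧ ∀ x ∈ s, a * x * a⁻¹ ∈ s).card := by
  rw [← Set.ncard_coe_finset, ← Set.ncard_image_of_injOn (f := fun s : Finset G => s.toList.prod)]
  · rw [← Nat.card_coe_set_eq]
    congr 1
    refine congrArg Set.Elem (?_ : ((closure (S : Set G) ⊓ centralizer {a} : Subgroup G) : Set G) = _)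
    ext v
    simp only [coe_inf, Set.mem_inter_iff, SetLike.mem_coe, mem_centralizer_singleton_iff,
      Finset.coe_filter, Finset.mem_powerset, Set.mem_image, Set.mem_ofPred_eq]
    constructor
    · rintro ⟨hv, hc⟩
      obtain ⟨l, hl, h3, rfl⟩ := h.ex v (h.mul_self hv) fun s hs => h.commute_closure hv hs
      refine ⟨l.toFinset, ⟨fun x hx => hl.mem x (List.mem_toFinset.1 hx), ?_, fun x hx => ?_⟩,
        (hl.prod_perm (List.toFinset_toList hl.nodup).symm).symm⟩
      · rw [List.toFinset_card_of_nodup hl.nodup]; exact h3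
      · exact List.mem_toFinset.2 (h.conj_mem ha hl h3 (Eq.symm hc) (List.mem_toFinset.1 hx))
    · rintro ⟨s, ⟨hs, h3, hσ⟩, rfl⟩
      refine ⟨(h.cl_toList hs).prod_mem, ?_⟩
      have hp := (h.cl_conj ha (h.cl_toList hs)).perm_of_subset (l' := s.toList) (fun y hy => by
        obtain ⟨x, hx, rfl⟩ := List.mem_map.1 hy
        exact Finset.mem_toList.2 (hσ x (Finset.mem_toList.1 hx))) (by simp)
      have := (h.cl_conj ha (h.cl_toList hs)).prod_perm hp
      rw [prod_map_conj] at this
      rw [← this]; simp [this.symm ▸ mul_inv_eq_iff_eq_mul.1 this]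
  · intro s hs s' hs' e
    simp only [Finset.coe_filter, Finset.mem_powerset, Set.mem_ofPred_eq] at hs hs'
    ext x
    rw [← Finset.mem_toList, ← Finset.mem_toList (s := s')]
    exact ⟨h.uniq _ _ (h.cl_toList hs'.1) (h.cl_toList hs.1) (by simpa using hs'.2.1)
      (by simpa using hs.2.1) e.symm x, h.uniq _ _ (h.cl_toList hs.1) (h.cl_toList hs'.1)
      (by simpa using hs.2.1) (by simpa using hs'.2.1) e x⟩

theorem card_closure (h : Base23 S) : Nat.card (closure (S : Set G)) = 2048 := by
  classical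
  have h1 := h.card_centralizer (a := 1) (by simp)
  obtain ⟨f, t, e1, e2, e3⟩ := card_inv_subsets S (fun x => 1 * x * 1⁻¹) (by simp) (by simp)
  have : centralizer ({1} : Set G) = ⊤ := by ext; simp [mem_centralizer_singleton_iff]
  rw [this, inf_top_eq, e3] at h1
  rw [Finset.filter_true_of_mem (by simp), h.card] at e2
  rw [h.card] at e1
  obtain rfl : t = 0 := by omega
  rw [h1, e2]; decide

open Classical in
theorem card_of_not_mem (h : Base23 S) {a : G} (ha : ∀ s ∈ S, a * s * a⁻¹ ∈ S) (h2 : a * a = 1)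
    (hV : a ∉ closure (S : Set G)) :
    (S.filter fun x => a * x * a⁻¹ = x).card = 7 ∧
      Nat.card (closure (S : Set G) ⊓ centralizer {a} : Subgroup G) = 128 := by
  have h1 := h.card_centralizer ha
  obtain ⟨f, t, e1, e2, e3⟩ := card_inv_subsets S (fun x => a * x * a⁻¹) ha (fun x _ => by
    rw [inv_eq_of_mul_eq_one_right h2]
    calc a * (a * x * a) * a = (a * a) * x * (a * a) := by group
      _ = x := by rw [h2, one_mul, mul_one])
  rw [e3] at h1
  rw [h.card] at e1
  have hd := card_dvd_of_le (inf_le_left : closure (S : Set G) ⊓ centralizer {a} ≤ _)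
  rw [h.card_closure, h1] at hd
  have ht : t ≠ 0 := by
    rintro rfl
    refine hV (h.mem_closure h2 fun s hs => ?_)
    have : (S.filter fun x => a * x * a⁻¹ = x) = S :=
      Finset.eq_of_subset_of_card_le (Finset.filter_subset _ _) (by rw [← e2, h.card]; omega)
    rw [← this] at hs
    exact mul_inv_eq_iff_eq_mul.1 (Finset.mem_filter.1 hs).2
  rw [← e2, h1]
  obtain rfl : f = 23 - 2 * t := by omega
  have ht' : t ≤ 11 := by omega
  interval_cases t <;> first | exact absurd rfl ht | exact absurd hd (by decide) | decide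

theorem card_le [Finite G] (h : Base23 S) (A : Subgroup G) (hA : IsElementaryAbelian 2 A)
    (hn : ∀ a ∈ A, ∀ s ∈ S, a * s * a⁻¹ ∈ S) :
    Nat.card A ≤ 2048 ∧ (Nat.card A = 2048 → A = closure (S : Set G)) := by
  classical
  set V := closure (S : Set G)
  by_cases hAV : A ≤ V
  · exact ⟨h.card_closure ▸ card_le_of_le hAV,
      fun e => eq_of_le_of_card_ge hAV (by rw [e, h.card_closure])⟩
  have hsq : ∀ a ∈ A, a * a = 1 := fun a ha => by rw [← pow_two]; exact hA.2 a ha
  have hcomm : ∀ a ∈ A, ∀ b ∈ A, a * b = b * a := fun a ha b hb =>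
    congrArg Subtype.val (hA.1.is_comm.comm ⟨a, ha⟩ ⟨b, hb⟩)
  have hle : ∀ a ∈ A, A ⊓ V ≤ V ⊓ centralizer {a} := fun a ha x hx =>
    ⟨hx.2, mem_centralizer_singleton_iff.2 (hcomm x hx.1 a ha)⟩
  obtain ⟨a, ha, haV⟩ := SetLike.not_le_iff_exists.1 hAV
  have h128 : Nat.card (A ⊓ V : Subgroup G) ≤ 128 :=
    (h.card_of_not_mem (hn a ha) (hsq a ha) haV).2 ▸ card_le_of_le (hle a ha)
  have h16 : Nat.card A ≤ 16 * Nat.card (A ⊓ V : Subgroup G) := by
    let _ : MulAction A S :=
      { smul := fun b s => ⟨b * s * b⁻¹, hn b b.2 s s.2⟩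
        one_smul := fun s => Subtype.ext (by change (1 : G) * s * 1⁻¹ = s; simp)
        mul_smul := fun b c s => Subtype.ext (by
          change ((b : G) * c) * s * ((b : G) * c)⁻¹ = b * (c * s * (c : G)⁻¹) * (b : G)⁻¹; group) }
    have := Fintype.ofFinite A
    have := Fintype.ofFinite (Quotient (MulAction.orbitRel A S))
    have hB := MulAction.sum_card_fixedBy_eq_card_orbits_mul_card_group A S
    have hfix : ∀ b : A, Fintype.card (MulAction.fixedBy S b) =
        7 + if (b : G) ∈ V then 16 else 0 := fun b => by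
      have e : Fintype.card (MulAction.fixedBy S b) =
          (S.filter fun x => (b : G) * x * (b : G)⁻¹ = x).card := by
        rw [← Fintype.card_coe]
        exact Fintype.card_congr
          ⟨fun x => ⟨x.1.1, Finset.mem_filter.2 ⟨x.1.2, congrArg Subtype.val x.2⟩⟩,
            fun x => ⟨⟨x.1, (Finset.mem_filter.1 x.2).1⟩, Subtype.ext (Finset.mem_filter.1 x.2).2⟩,
            fun _ => rfl, fun _ => rfl⟩
      rw [e]
      split_ifs with hb
      · rw [Finset.filter_true_of_mem fun s hs => by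
          rw [(h.commute_closure hb hs).eq, mul_inv_cancel_right], h.card]
      · exact (h.card_of_not_mem (hn b b.2) (hsq b b.2) hb).1
    simp only [hfix, Finset.sum_add_distrib, Finset.sum_const, Finset.card_univ, smul_eq_mul,
      Finset.sum_ite, mul_zero, add_zero] at hB
    have e2 : (Finset.univ.filter fun b : A => (b : G) ∈ V).card = Nat.card (A ⊓ V : Subgroup G) := by
      rw [← Fintype.card_coe, ← Nat.card_eq_fintype_card]
      exact Nat.card_congr ⟨fun x => ⟨x.1.1, x.1.2, (Finset.mem_filter.1 x.2).2⟩,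
        fun x => ⟨⟨x.1, x.2.1⟩, Finset.mem_filter.2 ⟨Finset.mem_univ _, x.2.2⟩⟩,
        fun _ => rfl, fun _ => rfl⟩
    rw [e2, ← Nat.card_eq_fintype_card (α := A)] at hB
    have hpos : 0 < Nat.card (A ⊓ V : Subgroup G) := Nat.card_pos
    refine Nat.le_of_dvd (by omega) ?_
    have : Nat.card A ∣ Nat.card A * 7 + Nat.card (A ⊓ V : Subgroup G) * 16 :=
      hB ▸ Dvd.intro_left _ rfl
    rw [mul_comm 16]
    exact (Nat.dvd_add_right (Dvd.intro _ rfl)).1 this
  refine ⟨by omega, fun e => ?_⟩
  exfalso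
  have heq : ∀ b ∈ A, b ∉ V → V ⊓ centralizer {b} ≤ A := fun b hb hbV => by
    rw [← eq_of_le_of_card_ge (hle b hb) (by
      rw [(h.card_of_not_mem (hn b hb) (hsq b hb) hbV).2]; omega)]
    exact inf_le_left
  have hfix : ∀ b ∈ A, b ∉ V → ∀ c ∈ A, ∀ s ∈ S, b * s * b⁻¹ = s → c * s * c⁻¹ = s :=
    fun b hb hbV c hc s hs e => by
      have : s ∈ A := heq b hb hbV ⟨subset_closure hs,
        mem_centralizer_singleton_iff.2 (mul_inv_eq_iff_eq_mul.1 e).symm⟩
      rw [hcomm c hc s this, mul_inv_cancel_right]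
  have hsame : ∀ b ∈ A, b ∉ V → a⁻¹ * b ∈ V := fun b hb hbV => by
    refine h.mem_closure (hsq _ (A.mul_mem (A.inv_mem ha) hb)) fun s hs => ?_
    have key : b * s * b⁻¹ = a * s * a⁻¹ := by
      by_cases e : a * s * a⁻¹ = s
      · rw [e, hfix a ha haV b hb s hs e]
      · have hl : CL (S : Set G) [s, a * s * a⁻¹] :=
          ⟨by simpa using fun e' => e e'.symm, by simpa using ⟨hs, hn a ha s hs⟩,
            fun x hx y hy => h.comm x (by
              rcases List.mem_pair.1 hx with rfl | rfl; exacts [hs, hn a ha s hs]) y (by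
              rcases List.mem_pair.1 hy with rfl | rfl; exacts [hs, hn a ha s hs])⟩
        have hm : [s, a * s * a⁻¹].prod ∈ A := by
          refine heq a ha haV ⟨hl.prod_mem, mem_centralizer_singleton_iff.2 ?_⟩
          have hc := (h.comm s hs _ (hn a ha s hs)).eq
          have ha2 := hsq a ha
          rw [inv_eq_of_mul_eq_one_right ha2] at hc ⊢
          simp only [List.prod_cons, List.prod_nil, mul_one]
          calc s * (a * s * a) * a = s * a * s * (a * a) := by group
            _ = (a * a) * s * a * s := by rw [ha2]; group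
            _ = a * (a * s * a * s) := by group
            _ = a * (s * (a * s * a)) := by rw [hc]
        have := h.conj_mem (hn b hb) hl (by simp) (hcomm b hb _ hm) (x := s) (by simp)
        rcases List.mem_pair.1 this with e' | e'
        · exact absurd (hfix b hb hbV a ha s hs e') e
        · exact e'
    change a⁻¹ * b * s = s * (a⁻¹ * b)
    calc a⁻¹ * b * s = a⁻¹ * (b * s * b⁻¹) * b := by group
      _ = s * (a⁻¹ * b) := by rw [key]; group
  let φ : A → (A ⊓ V : Subgroup G) ⊕ (A ⊓ V : Subgroup G) := fun b =>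
    if hb : (b : G) ∈ V then Sum.inl ⟨b, b.2, hb⟩
    else Sum.inr ⟨a⁻¹ * b, A.mul_mem (A.inv_mem ha) b.2, hsame b b.2 hb⟩
  have hφ : Function.Injective φ := by
    intro x y e
    simp only [φ] at e
    split_ifs at e
    · have := congrArg Subtype.val (Sum.inl.inj e)
      exact Subtype.ext this
    · exact Subtype.ext (mul_left_cancel (congrArg Subtype.val (Sum.inr.inj e)))
  have := Nat.card_le_card_of_injective φ hφ
  rw [Nat.card_sum] at this
  omega

end Base23

variable [Finite G] {D : Set G}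

/-- The transpositions in a Sylow 2-subgroup of a group of type `M(23)`. -/
theorem M23g.exists_base (h : M23g D) (hD : IsThreeTranspositionGroup D) (hZ : center G = ⊥)
    (T : Sylow 2 G) : ∃ S : Finset G, (S : Set G) = {d | d ∈ D ∧ d ∈ T} ∧ Base23 S := by
  obtain ⟨h1, h2⟩ := S5345.result hD T
  rw [h.hasWidth.eq] at h2
  have hc : ∀ s ∈ {d | d ∈ D ∧ d ∈ T}, ∀ t ∈ {d | d ∈ D ∧ d ∈ T}, Commute s t :=
    fun s hs t ht => congrArg Subtype.val
      (h1.is_comm.comm ⟨s, subset_closure hs⟩ ⟨t, subset_closure ht⟩)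
  have hf := Set.toFinite {d | d ∈ D ∧ d ∈ T}
  have hmax : ∀ e ∈ D, (∀ s ∈ {d | d ∈ D ∧ d ∈ T}, Commute s e) → e ∈ {d | d ∈ D ∧ d ∈ T} := by
    intro e he hs
    by_contra hne
    have := h.hasWidth.2 ⟨insert e {d | d ∈ D ∧ d ∈ T}, Set.insert_subset he fun _ h => h.1,
      hf.insert e, by
        rintro a (rfl | ha) b (rfl | hb)
        exacts [Commute.refl _, (hs b hb).symm, hs a ha, hc a ha b hb], rfl⟩
    rw [Set.ncard_insert_of_notMem hne hf, h2] at this
    omega
  refine ⟨hf.toFinset, hf.coe_toFinset, by rw [← Set.ncard_eq_toFinset_card _ hf, h2],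
    fun s hs => ?_, fun s hs t ht => hc s (hf.mem_toFinset.1 hs) t (hf.mem_toFinset.1 ht),
    fun l l' hl hl' h3 h3' e x hx => ?_, fun x hx hs => ?_⟩
  · rw [← pow_two, ← hD.1.1 s (hf.mem_toFinset.1 hs).1, pow_orderOf_eq_one]
  · rw [hf.coe_toFinset] at hl hl'
    exact h.primTo.subset_of_sameOn (hl.mono fun _ h => h.1) (hl'.mono fun _ h => h.1)
      (by omega) h3' (SameOn.of_eq e) hx
  · obtain ⟨l, hl, h3, e⟩ := h.exists_CL_of_sq (x := x) (hD.2.2 ▸ mem_top x) (SameOn.of_eq hx)
    have e' := e.eq hD.2.2 hZ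
    refine ⟨l, ⟨hl.nodup, fun a ha => ?_, hl.comm⟩, h3, e'.symm⟩
    rw [hf.coe_toFinset]
    refine hmax a (hl.mem a ha) fun s hs' => hl.commute_of_prod h.1.toIsTT h3 hs'.1 ?_ ha
    rw [← e']
    exact (hs s (hf.mem_toFinset.2 hs')).symm

/-- The Thompson subgroup in type `M(23)`. -/
theorem M23g.sylow_base (h : M23g D) (hD : IsThreeTranspositionGroup D) (hZ : center G = ⊥)
    (T : Sylow 2 G) : closure {d | d ∈ D ∧ d ∈ T} ≤ T ∧
      ((closure {d | d ∈ D ∧ d ∈ T}).subgroupOf T).Normal ∧
      IsElementaryAbelian 2 (closure {d | d ∈ D ∧ d ∈ T}) ∧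
      Nat.card (closure {d | d ∈ D ∧ d ∈ T}) = 2 ^ 11 ∧
      ∀ A : Subgroup G, A ≤ T → IsElementaryAbelian 2 A → Nat.card A ≤ 2 ^ 11 ∧
        (Nat.card A = 2 ^ 11 → A = closure {d | d ∈ D ∧ d ∈ T}) := by
  obtain ⟨S, hS, hb⟩ := h.exists_base hD hZ T
  have hn : ∀ a ∈ (T : Subgroup G), ∀ s ∈ S, a * s * a⁻¹ ∈ S := fun a ha s hs => by
    have : s ∈ (S : Set G) := hs
    rw [← Finset.mem_coe, hS]
    rw [hS] at this
    exact ⟨hD.2.1 a s this.1, T.1.mul_mem (T.1.mul_mem ha this.2) (T.1.inv_mem ha)⟩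
  have hle : closure {d | d ∈ D ∧ d ∈ T} ≤ T := (closure_le _).2 fun _ h => h.2
  rw [← hS] at hle ⊢
  refine ⟨hle, ?_, hb.isElementaryAbelian, hb.card_closure,
    fun A hA hA' => hb.card_le A hA' fun a ha => hn a (hA ha)⟩
  rw [normal_subgroupOf_iff hle]
  intro v a hv ha
  induction hv using closure_induction with
  | mem y hy => exact subset_closure (hn a ha y hy)
  | one => simp
  | mul y z _ _ hy hz => simpa [mul_assoc] using mul_mem hy hz
  | inv y _ hy => simpa [mul_assoc] using inv_mem hy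

end Cfsg.Agent.TT
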