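import Mathlib
import Cfsg.Agent.TT.TriGroup
import Cfsg.Agent.TT.RowBase
import Cfsg.Agent.TT.Polar
import Cfsg.Agent.PLocal.FStar

/-!
Classes of 3-transpositions with disconnected commuting graph and `Z = O₂ = O₃ = 1`.
-/

set_option autoImplicit false

namespace Cfsg.Agent.TT

open Subgroup

variable {G : Type*} [Group G] {D : Set G} {L : Subgroup G}

/-- The setting: `L = F*(G)` is the component of `G`. -/
structure Disc (D : Set G) (L : Subgroup G) : Prop where
  cls : IsThreeTranspositionClass D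
  cen : center G = ⊥
  two : pCore 2 G = ⊥
  three : pCore 3 G = ⊥
  disc : ¬ CConn D
  comp : IsComponent L
  fstar : generalizedFittingSubgroup G = L

theorem two_of_not_cconn (h : ¬ CConn D) : ∃ a ∈ D, ∃ b ∈ D, a ≠ b := by
  by_contra hn
  push Not at hn
  exact h fun P _ a ha b hb hP => hn a ha b hb ▸ hP

theorem exists_disc [Finite G] (hD : IsThreeTranspositionClass D) (hZ : center G = ⊥)
    (h2 : pCore 2 G = ⊥) (h3 : pCore 3 G = ⊥) (h : ¬ CConn D) :
    Disc D (generalizedFittingSubgroup G) := by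
  obtain ⟨L, hL, e⟩ := exists_comp hD (two_of_not_cconn h) (h2 ▸ bot_le) (h3 ▸ bot_le)
  rw [hZ, sup_bot_eq] at e
  exact ⟨hD, hZ, h2, h3, h, e ▸ hL, rfl⟩

namespace Disc

variable [Finite G] (h : Disc D L)
include h

omit [Finite G] in
theorem grp : IsThreeTranspositionGroup D := group_of_class h.cls

omit [Finite G] in
theorem tt : IsTT D := isTT_of_group h.grp

omit [Finite G] in
theorem mem (g : G) : g ∈ closure D := h.cls.2.2 ▸ mem_top g

theorem normal : L.Normal := comp_normal h.grp h.comp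

theorem le_of_normal {N : Subgroup G} [N.Normal] (hN : N ≠ ⊥) : L ≤ N :=
  comp_le_of_normal h.cls (h.two ▸ bot_le) (h.three ▸ bot_le) h.comp
    (by rw [h.cen, le_bot_iff]; exact hN)

theorem centralizer_eq : centralizer (L : Set G) = ⊥ := by
  have := h.normal
  by_contra hn
  exact PLocal.qsS_not_le_centralizer h.comp.2 (h.le_of_normal hn)

theorem center_eq : center L = ⊥ := by
  rw [eq_bot_iff]
  intro x hx
  have : (x : G) ∈ centralizer (L : Set G) := fun y hy =>
    congrArg Subtype.val (mem_center_iff.1 hx ⟨y, hy⟩)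
  rw [h.centralizer_eq] at this
  exact Subtype.ext this

theorem vtriv : VTriv D := fun _ ha _ hb =>
  eq_of_vrel h.cls (two_of_not_cconn h.disc) (h.two ▸ bot_le) ha hb

theorem wtriv : WTriv D := fun _ ha _ hb => eq_of_wrel h.grp (h.three ▸ bot_le) ha hb

omit [Finite G] in
theorem exists_not_mem {d : G} (hd : d ∈ D) : ∃ x ∈ D, x ∉ ccpt D d := by
  by_contra hn
  push Not at hn
  exact h.disc ((cconn_iff_ccpt hd).2 (Set.Subset.antisymm (ccpt_subset _ _) hn))

theorem exists_loc {d : G} (hd : d ∈ D) : ∃ e, e ∈ loc D d := by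
  have hw : Wide D := by
    by_contra hw
    have := isSolvable_of_not_wide h.grp hw
    exact PLocal.qs_not_solvable h.comp.2 inferInstance
  obtain ⟨a, ha, b, hb, hne, hc⟩ := hw
  obtain ⟨g, rfl⟩ := exists_conj_of_class h.cls ha hd
  exact ⟨_, (h.tt.conj_mem_loc_iff (h.mem g)).2 ⟨hb, hne.symm, hc⟩⟩

omit [Finite G] in
theorem invEquiv : InvEquiv D fun a b => ccpt D a = ccpt D b :=
  ⟨fun _ _ => rfl, Eq.symm, Eq.trans, fun g _ _ e => by
    rw [← h.tt.image_ccpt (h.mem g), e, h.tt.image_ccpt (h.mem g)]⟩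

theorem ccpt_conj {k x : G} (hk : k ∈ L) (hx : x ∈ D) : ccpt D (k * x * k⁻¹) = ccpt D x := by
  have := h.invEquiv.ker_normal h.grp.2.1
  obtain ⟨e, he⟩ := h.exists_loc hx
  refine h.le_of_normal (N := h.invEquiv.ker h.grp.2.1) (fun hb => ?_) hk x hx
  have h1 := h.invEquiv.mul_mem_ker h.grp hx he.1
    (ccpt_eq_of_mem hx (mem_ccpt_of_commute (self_mem_ccpt hx) he.1 he.2.2)).symm
  rw [hb, mem_bot, mul_eq_one_iff h.tt.tt hx] at h1
  exact he.2.1 h1.symm

theorem conj_mem_ccpt {k d a : G} (hk : k ∈ L) (hd : d ∈ D) (ha : a ∈ ccpt D d) :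
    k * a * k⁻¹ ∈ ccpt D d := by
  rw [← ccpt_eq_of_mem hd ha, ← h.ccpt_conj hk ha.1]
  exact self_mem_ccpt (h.grp.2.1 k a ha.1)

theorem mul_mem {d a b : G} (hd : d ∈ D) (ha : a ∈ ccpt D d) (hb : b ∈ ccpt D d) : a * b ∈ L := by
  rw [← ccpt_eq_of_mem hd ha] at hb
  refine hb.2 (fun y => a * y ∈ L) (fun p hp q hq hpq h1 => ?_) ?_
  · have := L.mul_mem h1 (mul_mem_comp_of_commute h.cls h.comp hp hq hpq)
    rwa [mul_assoc, mul_cancel_left h.tt.tt hp] at this
  · rw [h.tt.sq ha.1]; exact one_mem _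

theorem mem_ccpt_of_mul_mem {b x : G} (hb : b ∈ D) (hx : x ∈ D) (hk : b * x ∈ L) :
    x ∈ ccpt D b := by
  have h1 := h.invEquiv.conj b (h.ccpt_conj hk hb)
  refine UQ.mem_of_ccpt_conj h.tt hx hb ?_
  simpa [mul_assoc, h.tt.inv hb, h.tt.inv hx, mul_cancel_left h.tt.tt hb, h.tt.sq hb] using h1

theorem not_mem {d : G} (hd : d ∈ D) : d ∉ L := fun hk => by
  obtain ⟨x, hx, hn⟩ := h.exists_not_mem hd
  have := h.ccpt_conj hk hx
  rw [h.tt.inv hd] at this
  exact hn (ccpt_eq_of_mem hx (UQ.mem_of_ccpt_conj h.tt hd hx this) ▸ self_mem_ccpt hx)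

omit [Finite G] h in
theorem not_commute {d a x : G} (ha : a ∈ ccpt D d) (hx : x ∈ D) (hn : x ∉ ccpt D d) :
    ¬ Commute a x := fun hc => hn (mem_ccpt_of_commute ha hx hc)

/-- The product of two commuting points of another block. -/
theorem exists_invol {d a b x : G} (hd : d ∈ D) (ha : a ∈ ccpt D d) (hb : b ∈ loc D a)
    (hx : x ∈ D) (hn : x ∉ ccpt D d) :
    ∃ t ∈ L, Commute t x ∧ t * a * t⁻¹ = b ∧ t * t = 1 ∧ ∀ c ∈ ccpt D d, t * c * t⁻¹ ≠ c := by
  have hT := h.tt.tt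
  have hb' := mem_ccpt_of_commute ha hb.1 hb.2.2
  have hax := not_commute ha hx hn
  have hxb : ¬ Commute x b := fun hc => not_commute hb' hx hn hc.symm
  have hy : a * (b * x * b) * a ∈ D := h.tt.conj a ha.1 _ (h.tt.conj b hb.1 x hx)
  have hxy := string_commute hT ha.1 hx hb.1 hb.2.2 hax hxb
  have hne : x ≠ a * (b * x * b) * a := fun e => hax
    (commute_of_commute_mul hT ha.1 hb.1 hx hb.2.2 hb.2.1.symm (commute_of_conj_eq (by
      rw [mul_inv_rev, inv_eq hT ha.1, inv_eq hT hb.1]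
      simpa only [mul_assoc] using e.symm)).symm).symm
  refine ⟨x * (a * (b * x * b) * a), mul_mem_comp_of_commute h.cls h.comp hx hy hxy,
    (Commute.refl x).mul_left hxy.symm, ?_, ?_, fun c hc e => ?_⟩
  · have h1 := string_conj hT ha.1 hx hb.1 hb.2.2 hax hxb
    have h2 : (b * a) * a * (b * a)⁻¹ = a :=
      conj_eq_of_commute (hb.2.2.symm.mul_left (Commute.refl a))
    calc x * (a * (b * x * b) * a) * a * (x * (a * (b * x * b) * a))⁻¹
        = (x * (a * b) * x) * ((b * a) * a * (b * a)⁻¹) * (x * (a * b) * x)⁻¹ := by group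
      _ = b := by rw [h2, h1]
  · rw [← sq]; exact (commute_iff_sq hT hx hy).1 hxy
  · exact not_commute hc hx hn (commute_of_commute_mul hT hx hy hc.1 hxy hne
      (commute_of_conj_eq e).symm)

/-- The centralizer in `L` of a point is transitive on every other block. -/
theorem exists_conj {d a b x : G} (hd : d ∈ D) (ha : a ∈ ccpt D d) (hb : b ∈ ccpt D d)
    (hx : x ∈ D) (hn : x ∉ ccpt D d) : ∃ k ∈ L ⊓ centralizer {x}, k * a * k⁻¹ = b := by
  have hb' := hb
  rw [← ccpt_eq_of_mem hd ha] at hb'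
  refine hb'.2 (fun y => ∃ k ∈ L ⊓ centralizer {x}, k * a * k⁻¹ = y) ?_ ⟨1, one_mem _, by simp⟩
  rintro _ hp q hq hpq ⟨k, hk, rfl⟩
  by_cases e : q = k * a * k⁻¹
  · exact ⟨k, hk, e.symm⟩
  · obtain ⟨t, ht, htx, e', -⟩ := h.exists_invol hd (h.conj_mem_ccpt hk.1 hd ha) ⟨hq, e, hpq⟩ hx hn
    exact ⟨t * k, Subgroup.mul_mem _ ⟨ht, mem_centralizer_singleton_iff.2 htx⟩ hk, by
      rw [← e']; group⟩

theorem le_closure {d : G} (hd : d ∈ D) : L ≤ closure (ccpt D d) :=
  (comp_le_closure_orb h.comp (not_centralizes_comp h.cls h.comp hd)).trans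
    (Subgroup.closure_mono (by
      rintro _ ⟨k, hk, rfl⟩
      exact h.conj_mem_ccpt hk hd (self_mem_ccpt hd)))

theorem prim {d : G} (hd : d ∈ D) : Prim (ccpt D d) := by
  obtain ⟨x, hx, hn⟩ := h.exists_not_mem hd
  obtain ⟨e, he⟩ := h.exists_loc hd
  refine prim_of_reduced (h.tt.ccpt hd) (fun a ha b hb => ?_)
    ⟨d, self_mem_ccpt hd, e, mem_ccpt_of_commute (self_mem_ccpt hd) he.1 he.2.2, he.2.1.symm,
      he.2.2⟩ (fun a ha b hb hv => h.vtriv a ha.1 b hb.1 fun y hy => ?_)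
    (fun a ha b hb hw => h.wtriv a ha.1 b hb.1 fun y hy => ?_) (cconn_ccpt hd)
  · obtain ⟨k, hk, e⟩ := h.exists_conj hd ha hb hx hn
    exact ⟨k, h.le_closure hd hk.1, e⟩
  · by_cases hyB : y ∈ ccpt D d
    · exact hv y hyB
    · exact iff_of_false (not_commute ha hy hyB) (not_commute hb hy hyB)
  · by_cases hyB : y ∈ ccpt D d
    · exact hw y hyB
    · exact iff_of_false (fun h' => not_commute ha hy hyB h'.2) fun h' => not_commute hb hy hyB h'.2

theorem center_closure {d : G} (hd : d ∈ D) : center (closure (ccpt D d)) = ⊥ := by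
  rw [eq_bot_iff]
  intro x hx
  have : (x : G) ∈ centralizer (L : Set G) := fun y hy =>
    congrArg Subtype.val (mem_center_iff.1 hx ⟨y, h.le_closure hd hy⟩)
  rw [h.centralizer_eq] at this
  exact Subtype.ext this

theorem map_commutator {d : G} (hd : d ∈ D) :
    (commutator (closure (ccpt D d))).map (closure (ccpt D d)).subtype = L := by
  have := h.normal
  refine le_antisymm ?_ ?_
  · rw [← QuotientGroup.ker_mk' L, map_le_iff_le_comap, MonoidHom.comap_ker,
      ← Subgroup.map_eq_bot_iff, map_commutator_eq, commutator_eq_bot_iff_le_centralizer,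
      MonoidHom.range_comp, range_subtype, MonoidHom.map_closure, centralizer_closure, closure_le]
    rintro _ ⟨a, ha, rfl⟩ _ ⟨b, hb, rfl⟩
    have : (a : G ⧸ L) = b := by
      rw [QuotientGroup.eq, h.tt.inv ha.1]; exact h.mul_mem hd ha hb
    simp only [QuotientGroup.mk'_apply, this]
  · rw [map_subtype_commutator]
    have hp : ⁅L, L⁆ = L := by
      rw [← map_subtype_commutator, h.comp.2.1.commutator_eq_top, ← MonoidHom.range_eq_map,
        range_subtype]
    exact hp.symm.le.trans (commutator_mono (h.le_closure hd) (h.le_closure hd))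

theorem nonempty_equiv_commutator {d : G} (hd : d ∈ D) :
    Nonempty (L ≃* commutator (closure (ccpt D d))) :=
  ⟨(MulEquiv.subgroupCongr (h.map_commutator hd).symm).trans
    ((commutator _).equivMapOfInjective _ (subtype_injective _)).symm⟩

theorem nonempty_equiv_pcomm {d : G} (hd : d ∈ D) :
    Nonempty (L ≃* commutator (closure (ccpt D d)) ⧸ center (commutator (closure (ccpt D d)))) :=
  let ⟨e⟩ := h.nonempty_equiv_commutator hd
  ⟨(QuotientGroup.quotientBot.symm.trans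
    (QuotientGroup.quotientMulEquivOfEq h.center_eq.symm)).trans (Class.quotCenterCongr e)⟩

theorem exists_fpf {d : G} (hd : d ∈ D) :
    ∃ t ∈ L, t * t = 1 ∧ ∀ c ∈ ccpt D d, t * c * t⁻¹ ≠ c := by
  obtain ⟨x, hx, hn⟩ := h.exists_not_mem hd
  obtain ⟨e, he⟩ := h.exists_loc hd
  obtain ⟨t, ht, -, -, h1, h2⟩ := h.exists_invol hd (self_mem_ccpt hd) he hx hn
  exact ⟨t, ht, h1, h2⟩

theorem even_ncard {d : G} (hd : d ∈ D) : Even (ccpt D d).ncard := by
  obtain ⟨t, ht, h1, h2⟩ := h.exists_fpf hd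
  refine even_ncard_of_invol (Set.toFinite _) (fun c => t * c * t⁻¹)
    (fun c hc => h.conj_mem_ccpt ht hd hc) (fun c _ => ?_) h2
  have : t⁻¹ = t := inv_eq_of_mul_eq_one_right h1
  simp only [this, ← mul_assoc, h1, one_mul]
  rw [mul_assoc, h1, mul_one]

theorem sq_dvd {d : G} (hd : d ∈ D) :
    (ccpt D d).ncard * (ccpt D d).ncard ∣ Nat.card (closure (ccpt D d)) := by
  have := h.normal
  obtain ⟨x, hx, hn⟩ := h.exists_not_mem hd
  have h1 := card_eq_ncard_mul (L ⊓ centralizer {x}) d (O := ccpt D d) fun y =>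
    ⟨fun hy => h.exists_conj hd (self_mem_ccpt hd) hy hx hn, by
      rintro ⟨g, hg, rfl⟩
      exact h.conj_mem_ccpt hg.1 hd (self_mem_ccpt hd)⟩
  have h2 := card_eq_ncard_mul L d (O := ccpt D d) fun y =>
    ⟨fun hy => let ⟨k, hk, e⟩ := h.exists_conj hd (self_mem_ccpt hd) hy hx hn; ⟨k, hk.1, e⟩, by
      rintro ⟨g, hg, rfl⟩
      exact h.conj_mem_ccpt hg hd (self_mem_ccpt hd)⟩
  obtain ⟨g, rfl⟩ := exists_conj_of_class h.cls hd hx
  have h3 : (L ⊓ centralizer {d}).map (MulAut.conj g).toMonoidHom =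
      L ⊓ centralizer {g * d * g⁻¹} := by
    ext y
    rw [mem_map_equiv, mem_inf, mem_inf, mem_centralizer_singleton_iff,
      mem_centralizer_singleton_iff, MulAut.conj_symm_apply, this.mem_comm_iff,
      ← commute_iff_eq, ← commute_iff_eq, ← commute_conj_iff' g]
    simp [mul_assoc]
  rw [← h3, card_map_of_injective (MulAut.conj g).injective] at h1
  refine Dvd.dvd.trans ?_ (card_dvd_of_le (h.le_closure hd))
  rw [h2, h1]
  exact mul_dvd_mul_left _ (Dvd.intro _ rfl)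

theorem card_quotient_dvd {c : ℕ} (hc : Nat.card (MulAut L) = c * Nat.card L) :
    Nat.card (G ⧸ L) ∣ c := by
  have := h.normal
  have h1 : Nat.card G ∣ Nat.card (MulAut L) := by
    refine card_dvd_of_injective (MulAut.conjNormal (H := L)) ?_
    rw [injective_iff_map_eq_one]
    intro g hg
    rw [← mem_bot, ← h.centralizer_eq]
    intro y hy
    have := congrArg (fun σ : MulAut L => ((σ ⟨y, hy⟩ : L) : G)) hg
    simp only [MulAut.conjNormal_apply, MulAut.one_apply] at this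
    exact (commute_of_conj_eq this).symm
  rw [hc, card_eq_card_quotient_mul_card_subgroup L] at h1
  exact Nat.dvd_of_mul_dvd_mul_right Nat.card_pos h1

theorem quotient_aux [L.Normal] : (∃ k i, i ≤ 2 ∧ Nat.card (G ⧸ L) = 3 ^ k * i) ∧
    ∃ S : Subgroup (G ⧸ L), Nonempty (S ≃* Equiv.Perm (Fin 3)) := by
  haveI : Fact (Nat.Prime 3) := ⟨Nat.prime_three⟩
  obtain ⟨d, hd⟩ := nonempty_of_class h.cls
  obtain ⟨x, hx, hn⟩ := h.exists_not_mem hd
  have hG := group_image h.grp (QuotientGroup.mk' L) (QuotientGroup.mk'_surjective L)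
    fun d hd e => h.not_mem hd ((QuotientGroup.eq_one_iff d).1 e)
  have hcube : ∀ a ∈ D, ∀ b ∈ D, (QuotientGroup.mk' L a * QuotientGroup.mk' L b) ^ 3 = 1 := by
    intro a ha b hb
    by_cases hc : Commute a b
    · have : QuotientGroup.mk' L (a * b) = 1 := (QuotientGroup.eq_one_iff _).2
        (mul_mem_comp_of_commute h.cls h.comp ha hb hc)
      rw [← map_mul, this, one_pow]
    · rw [← map_mul, ← map_pow, cube h.tt.tt ha hb hc, map_one]
  have hW : IsW1 (QuotientGroup.mk' L '' D) :=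
    ⟨fun a ha => mul_self hG.1 ha, by
      rintro _ ⟨a, ha, rfl⟩ _ ⟨b, hb, rfl⟩
      exact hcube a ha b hb, fun a ha b hb => conj_mem hG ha hb⟩
  refine ⟨?_, _, S0444.result hG.1 ⟨d, hd, rfl⟩ ⟨x, hx, rfl⟩ fun hc => hn ?_⟩
  · obtain ⟨k, hk⟩ := Grp.card_pCore 3 (G ⧸ L)
    refine ⟨k, _, index_le_two_of_mul_mem hG (L := pCore 3 (G ⧸ L)) ⟨d, hd, rfl⟩
      fun a ha b hb => hW.mul_mem_pCore hG.2.1 ha hb, ?_⟩
    rw [← hk, card_mul_index]
  · have := eq_of_commute_of_cube hG.1 ⟨d, hd, rfl⟩ ⟨x, hx, rfl⟩ hc (hcube d hd x hx)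
    rw [QuotientGroup.mk'_apply, QuotientGroup.mk'_apply, QuotientGroup.eq, h.tt.inv hd] at this
    exact h.mem_ccpt_of_mul_mem hd hx this

theorem six_dvd : 6 ∣ Nat.card (G ⧸ L) := by
  have := h.normal
  obtain ⟨-, S, ⟨e⟩⟩ := h.quotient_aux
  have h6 : Nat.card S = 6 := by rw [Nat.card_congr e.toEquiv, Nat.card_perm]; simp; rfl
  exact h6 ▸ card_subgroup_dvd_card S

theorem not_of_aut {c : ℕ} (hc : Nat.card (MulAut L) = c * Nat.card L) : 3 ∣ c :=
  (Dvd.intro 2 rfl).trans (h.six_dvd.trans (h.card_quotient_dvd hc))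

theorem quotient_equiv [L.Normal] (h24 : Nat.card (G ⧸ L) ∣ 24) :
    Nonempty (G ⧸ L ≃* Equiv.Perm (Fin 3)) := by
  obtain ⟨⟨k, i, hi, e1⟩, S, ⟨e⟩⟩ := h.quotient_aux
  have h6 : Nat.card S = 6 := by rw [Nat.card_congr e.toEquiv, Nat.card_perm]; simp; rfl
  have h6' := h.six_dvd
  have hk : k ≤ 1 := by
    by_contra hk
    have : 3 ^ 2 ∣ 24 := ((pow_dvd_pow 3 (by omega)).trans (Dvd.intro _ e1.symm)).trans h24
    omega
  have : S = ⊤ := by
    refine eq_top_of_le_card _ ?_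
    rw [h6, e1]
    interval_cases k <;> omega
  subst this
  exact ⟨topEquiv.symm.trans e⟩

end Disc

end Cfsg.Agent.TT
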