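import Mathlib
import Cfsg.Agent.TT.R22Hex2
import Cfsg.Agent.TT.O2C
import Cfsg.Agent.TT.RowCent2

/-!
Elementary abelian `2`-groups of unitary isometries over the field with four elements, and the
elementary abelian `2`-subgroups of largest order in type `M(22)`.
-/

set_option autoImplicit false

namespace Cfsg.Agent.TT

open Subgroup Cfsg.Agent.Class Module

local notation "ω" => (⟨0, 1⟩ : GF4)
local notation "σ" => U.conj GF4 2

namespace EU

/-- An additive group of isotropic vectors has at most `2 ^ n` members. -/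
theorem card_le_of_iso {n : ℕ} (Y : AddSubgroup (Fin n → GF4))
    (hY : ∀ y ∈ Y, hermForm n GF4 2 y y = 0) : Nat.card Y ≤ 2 ^ n := by
  let B : LinearMap.BilinForm (ZMod 2) (Fin n → GF4) := LinearMap.mk₂ (ZMod 2)
    (fun x y => (hermForm n GF4 2 x y).im)
    (fun x x' y => by rw [U.herm_add_left]; rfl)
    (fun c x y => by
      rcases (by decide : ∀ c : ZMod 2, c = 0 ∨ c = 1) c with rfl | rfl <;>
        simp [U.herm_zero_left])
    (fun x y y' => by rw [U.herm_add_right]; rfl)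
    (fun c x y => by
      rcases (by decide : ∀ c : ZMod 2, c = 0 ∨ c = 1) c with rfl | rfl <;>
        simp [U.herm_zero_right])
  have hB : ∀ x y, B x y = (hermForm n GF4 2 x y).im := fun _ _ => rfl
  have hs : ∀ x y, B x y = B y x := fun x y => by
    rw [hB, hB, ← U.herm_conj x y, U.conj_apply]
    generalize hermForm n GF4 2 x y = e
    revert e; decide
  have hn : B.Nondegenerate := LinearMap.BilinForm.Nondegenerate.ofSeparatingLeft fun x hx =>
    U.eq_zero_of_herm_left (q := 2) fun y => by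
      have h1 := hx y
      have h2 := hx (ω • y)
      rw [hB] at h1 h2
      rw [U.herm_smul_right, U.conj_apply] at h2
      revert h1 h2
      generalize hermForm n GF4 2 x y = e
      revert e; decide
  let W := AddSubgroup.toZModSubmodule 2 Y
  have h1 : W ≤ B.orthogonal W := fun x hx y hy => by
    have := hY _ (add_mem hx hy)
    rw [U.herm_add_left, U.herm_add_right, U.herm_add_right, hY x hx, hY y hy,
      ← U.herm_conj y x, U.conj_apply] at this
    rw [hB]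
    revert this
    generalize hermForm n GF4 2 y x = e
    revert e; decide
  have h2 := Submodule.finrank_mono h1
  rw [LinearMap.BilinForm.finrank_orthogonal hn] at h2
  have h3 := Module.natCard_eq_pow_finrank (K := ZMod 2) (V := Fin n → GF4)
  rw [Nat.card_zmod, Nat.card_fun, Nat.card_eq_fintype_card, card_GF4, Nat.card_fin,
    show 4 = 2 ^ 2 from rfl, ← pow_mul, Nat.pow_right_inj (by norm_num)] at h3
  have h4 := Module.natCard_eq_pow_finrank (K := ZMod 2) (V := W)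
  rw [Nat.card_zmod] at h4
  exact h4.le.trans (Nat.pow_le_pow_right (by norm_num) (by omega))

variable {A : Type*} [Group A] [Finite A]

theorem exists_fixed {n : ℕ} (ρ : A →* End GF4 (Fin n → GF4)) (hA : ∀ a : A, a * a = 1)
    (hρ : ∀ a x y, hermForm n GF4 2 (ρ a x) (ρ a y) = hermForm n GF4 2 x y) {b : A}
    (hb : ρ b ≠ 1) : ∃ u ∈ uS n, ∀ a, ρ a u = u := by
  have hc : ∀ a c x, ρ a (ρ c x) = ρ c (ρ a x) := fun a c x => by
    rw [← End.mul_apply, ← End.mul_apply, ← map_mul, ← map_mul,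
      comm_of_sq_eq_one (U := ⊤) (fun a _ => hA a) (mem_top a) (mem_top c)]
  have h2 : ∀ a x, ρ a (ρ a x) = x := fun a x => by
    rw [← End.mul_apply, ← map_mul, hA, map_one, End.one_apply]
  have key : ∀ s : Finset A, ∃ x, ρ b x + x ≠ 0 ∧ ∀ a ∈ s, ρ a (ρ b x + x) = ρ b x + x := by
    classical
    intro s
    induction s using Finset.induction_on with
    | empty =>
      obtain ⟨x, hx⟩ := DFunLike.ne_iff.1 hb
      exact ⟨x, fun e => hx (by
        rw [← add_left_inj x, e, End.one_apply, gf4_vec_add_self]), by simp⟩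
    | insert c s _ ih =>
      obtain ⟨x, h3, h4⟩ := ih
      by_cases e : ρ c (ρ b x + x) = ρ b x + x
      · exact ⟨x, h3, Finset.forall_mem_insert .. |>.2 ⟨e, h4⟩⟩
      have h5 : ρ b (ρ c x + x) + (ρ c x + x) = ρ c (ρ b x + x) + (ρ b x + x) := by
        rw [map_add, map_add, hc]; abel
      refine ⟨ρ c x + x, fun e' => e ?_, fun a ha => ?_⟩
      · rw [← add_left_inj (ρ b x + x), ← h5, e', gf4_vec_add_self]
      · rw [h5]
        rcases Finset.mem_insert.1 ha with rfl | ha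
        · rw [map_add, h2, add_comm]
        · rw [map_add, hc, h4 a ha]
  have := Fintype.ofFinite A
  obtain ⟨x, h3, h4⟩ := key Finset.univ
  refine ⟨_, ⟨h3, ?_⟩, fun a => h4 a (Finset.mem_univ a)⟩
  have := hρ b (ρ b x) x
  rw [h2] at this
  rw [U.herm_add_left, U.herm_add_right, U.herm_add_right, hρ, this]
  linear_combination gf4_add_self (hermForm n GF4 2 x x) +
    gf4_add_self (hermForm n GF4 2 (ρ b x) x)

/-- The bound in dimension `n`. -/
def Bnd (A : Type*) [Group A] (n m : ℕ) : Prop :=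
  ∀ ρ : A →* End GF4 (Fin n → GF4),
    (∀ a x y, hermForm n GF4 2 (ρ a x) (ρ a y) = hermForm n GF4 2 x y) →
    ρ.ker.index ≤ 2 ^ (m * m) ∧ (ρ.ker.index = 2 ^ (m * m) →
      ∃ W : Submodule GF4 (Fin n → GF4), Nat.card W = 4 ^ m ∧
        (∀ x ∈ W, ∀ y ∈ W, hermForm n GF4 2 x y = 0) ∧ ∀ x, x ∈ W ↔ ∀ a, ρ a x = x)

theorem step (hA : ∀ a : A, a * a = 1) {n m : ℕ} (hn : n = 2 * m) (ih : Bnd A n m) :
    Bnd A (n + 2) (m + 1) := by
  intro ρ hρ
  by_cases h0 : ρ.ker = ⊤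
  · rw [h0, index_top]
    exact ⟨Nat.one_le_two_pow, fun e => absurd e (Nat.one_lt_two_pow (by simp)).ne⟩
  obtain ⟨b₀, hb₀⟩ : ∃ b, ρ b ≠ 1 := by
    by_contra hn
    exact h0 (eq_top_iff.2 fun a _ => by_contra fun e => hn ⟨a, e⟩)
  obtain ⟨u, hu, hfix⟩ := exists_fixed ρ hA hρ hb₀
  obtain ⟨v, hv, huv⟩ := U.exists_partner hu.1 hu.2
  obtain ⟨f, h1, h2, h3⟩ := exists_perp_emb (n := n) hu.2 hv (by rw [huv]; exact one_ne_zero)
  have hvu := U.herm_comm_one huv
  have fu : ∀ w, hermForm _ GF4 2 (f w) u = 0 := fun w => ((h3 _).1 ⟨w, rfl⟩).1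
  have fv : ∀ w, hermForm _ GF4 2 (f w) v = 0 := fun w => ((h3 _).1 ⟨w, rfl⟩).2
  have uf : ∀ w, hermForm _ GF4 2 u (f w) = 0 := fun w => U.herm_comm_zero (fu w)
  have vf : ∀ w, hermForm _ GF4 2 v (f w) = 0 := fun w => U.herm_comm_zero (fv w)
  obtain ⟨p, hp, hpu⟩ : ∃ p : (Fin (n + 2) → GF4) →ₗ[GF4] (Fin n → GF4),
      (∀ w, p (f w) = w) ∧ p u = 0 := by
    obtain ⟨g, hg⟩ := (f.coprod (LinearMap.toSpanSingleton GF4 _ u)).exists_leftInverse_of_injective
      (LinearMap.ker_eq_bot'.2 fun x hx => by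
        have h4 : f x.1 + x.2 • u = 0 := hx
        have h5 := congrArg (hermForm _ GF4 2 · v) h4
        simp only [U.herm_add_left, U.herm_smul_left, fv, huv, U.herm_zero_left, zero_add,
          mul_one] at h5
        rw [h5, zero_smul, add_zero, ← map_zero f] at h4
        exact Prod.ext (h1 h4) h5)
    exact ⟨LinearMap.fst _ _ _ ∘ₗ g, fun w => by
      simpa using congrArg Prod.fst (LinearMap.congr_fun hg (w, 0)), by
      simpa using congrArg Prod.fst (LinearMap.congr_fun hg (0, 1))⟩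
  have dec : ∀ x, hermForm _ GF4 2 x u = 0 → x = f (p x) + hermForm _ GF4 2 x v • u :=
    fun x hx => by
      obtain ⟨w, hw⟩ := (h3 (x - hermForm _ GF4 2 x v • u)).2 (by
        simp [U.herm_sub_left, U.herm_smul_left, hx, hu.2, huv])
      have : p x = w := by rw [← hp w, hw, map_sub, map_smul, hpu, smul_zero, sub_zero]
      rw [this, hw, sub_add_cancel]
  have hρu : ∀ a x, hermForm _ GF4 2 (ρ a x) u = hermForm _ GF4 2 x u := fun a x => by
    rw [← hρ a x u, hfix]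
  have act : ∀ a w, ρ a (f w) = f (p (ρ a (f w))) + hermForm _ GF4 2 (ρ a (f w)) v • u :=
    fun a w => dec _ (by rw [hρu, fu])
  let ρ' : A →* End GF4 (Fin n → GF4) :=
    { toFun := fun a => p ∘ₗ ρ a ∘ₗ f
      map_one' := LinearMap.ext fun w => by simp [hp]
      map_mul' := fun a b => LinearMap.ext fun w => by
        change p (ρ (a * b) (f w)) = p (ρ a (f (p (ρ b (f w)))))
        rw [map_mul, End.mul_apply, act b w, map_add, map_smul, hfix, map_add, map_smul, hpu,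
          smul_zero, add_zero, map_add, hp, map_smul, hpu, smul_zero, add_zero] }
  have hρ' : ∀ a w, ρ' a w = p (ρ a (f w)) := fun _ _ => rfl
  obtain ⟨ih1, ih2⟩ := ih ρ' fun a x y => by
    rw [h2, h2, ← hρ a (f x) (f y), act a x, act a y, hρ', hρ']
    simp [U.herm_add_left, U.herm_add_right, U.herm_smul_left, U.herm_smul_right, fu, uf, hu.2]
  -- the action on `v`
  obtain ⟨y, s, hy⟩ : ∃ (y : A → Fin n → GF4) (s : A → GF4),
      ∀ a, ρ a v = v + f (y a) + s a • u :=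
    ⟨fun a => p (ρ a v - v), fun a => hermForm _ GF4 2 (ρ a v - v) v, fun a => by
      rw [add_assoc, ← dec _ (by rw [U.herm_sub_left, hρu, sub_self]), add_sub_cancel]⟩
  have act' : ∀ a w, ρ a (f w) = f (ρ' a w) + hermForm _ GF4 2 (ρ' a w) (y a) • u := fun a w => by
    have h4 := hρ a (f w) v
    rw [hy, U.herm_add_right, U.herm_add_right, U.herm_smul_right, hρu, fu, fv, mul_zero,
      add_zero] at h4
    rw [act, ← hρ', h2, eq_neg_of_add_eq_zero_left h4, act a w, ← hρ']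
    simp [U.herm_add_left, U.herm_smul_left, uf, neg_eq_of_add_eq_zero_right (gf4_add_self _)]
  have inj : ∀ {w w' : Fin n → GF4} {c c' : GF4}, f w + c • u = f w' + c' • u →
      w = w' ∧ c = c' := fun {w w' c c'} e => by
    have h4 := congrArg p e
    have h5 := congrArg (hermForm _ GF4 2 · v) e
    simp only [map_add, map_smul, hp, hpu, smul_zero, add_zero] at h4
    simp only [U.herm_add_left, U.herm_smul_left, fv, huv, zero_add, mul_one] at h5
    exact ⟨h4, h5⟩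
  have mul : ∀ a b, y (a * b) = y a + ρ' a (y b) ∧
      s (a * b) = s a + s b + hermForm _ GF4 2 (ρ' a (y b)) (y a) := fun a b => inj (by
    have := hy (a * b)
    rw [map_mul, End.mul_apply, hy b, map_add, map_add, map_smul, hfix, hy a, act'] at this
    rw [map_add]
    linear_combination (norm := module) -this)
  have one : y 1 = 0 ∧ s 1 = 0 := inj (by simpa [add_assoc] using hy 1)
  have hK : ∀ a ∈ ρ'.ker, ∀ w, ρ' a w = w := fun a ha w => by rw [MonoidHom.mem_ker.1 ha]; rfl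
  have hyy : ∀ a ∈ ρ'.ker, hermForm _ GF4 2 (y a) (y a) = 0 := fun a ha => by
    have := (mul a a).2
    rwa [hA, one.2, gf4_add_self, zero_add, hK a ha, eq_comm] at this
  have hs : ∀ a ∈ ρ'.ker, s a ∈ ({0, 1} : Set GF4) := fun a ha => gf4_trace_zero (by
    have := hρ a v v
    rw [hy] at this
    simp only [U.herm_add_left, U.herm_add_right, U.herm_smul_left, U.herm_smul_right, fu, uf, fv,
      vf, hu.2, hv, huv, hvu, ← h2, hyy a ha] at this
    linear_combination this)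
  have hcomm : ∀ a b : A, a * b = b * a := fun a b =>
    comm_of_sq_eq_one (U := ⊤) (fun a _ => hA a) (mem_top a) (mem_top b)
  have hyfix : ∀ a ∈ ρ'.ker, ∀ b, ρ' b (y a) = y a ∧
      hermForm _ GF4 2 (y b) (y a) = hermForm _ GF4 2 (y a) (y b) := fun a ha b => by
    have e1 := mul a b
    have e2 := mul b a
    rw [hcomm b a, e1.1, e1.2, hK a ha, add_comm (y a), add_right_inj] at e2
    obtain ⟨e3, e4⟩ := e2
    rw [← e3] at e4
    exact ⟨e3.symm, by linear_combination e4⟩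
  -- the index of the kernel
  have hle : ρ.ker ≤ ρ'.ker := fun a ha => LinearMap.ext fun w => by
    rw [hρ', MonoidHom.mem_ker.1 ha, End.one_apply, hp, End.one_apply]
  have hrel : ρ.ker.relIndex ρ'.ker = ((fun a => (y a, s a)) '' ρ'.ker).ncard := by
    letI : MulAction ρ'.ker (Fin (n + 2) → GF4) := MulAction.compHom _ (ρ.comp ρ'.ker.subtype)
    have h4 : ρ.ker.subgroupOf ρ'.ker = MulAction.stabilizer ρ'.ker v := by
      ext a
      refine ⟨fun ha => by
        change ρ a v = v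
        rw [MonoidHom.mem_ker.1 (mem_subgroupOf.1 ha)]; rfl, fun ha => LinearMap.ext fun x => ?_⟩
      have h5 : ρ a v = v := ha
      have h6 : y a = 0 := (inj (w' := 0) (c' := 0) (by
        rw [hy, add_assoc, add_eq_left] at h5; simpa using h5)).1
      have h7 := dec (x - hermForm _ GF4 2 x u • v) (by
        simp [U.herm_sub_left, U.herm_smul_left, hvu])
      rw [sub_eq_iff_eq_add] at h7
      change ρ a x = x
      conv_lhs => rw [h7]
      rw [map_add, map_add, map_smul, map_smul, hfix, h5, act', hK _ a.2, h6, U.herm_zero_right,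
        zero_smul, add_zero, ← h7]
    rw [relIndex, h4, MulAction.index_stabilizer, ← Set.InjOn.ncard_image
      (f := fun z : (Fin n → GF4) × GF4 => v + f z.1 + z.2 • u) fun z _ z' _ e =>
        Prod.ext_iff.2 (inj (by simpa [add_assoc] using e))]
    congr 1
    ext x
    constructor
    · rintro ⟨a, rfl⟩
      exact ⟨_, ⟨a, a.2, rfl⟩, (hy a).symm⟩
    · rintro ⟨_, ⟨a, ha, rfl⟩, rfl⟩
      exact ⟨⟨a, ha⟩, hy a⟩
  have hc2 : ({0, 1} : Set GF4).ncard = 2 := Set.ncard_pair zero_ne_one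
  let Y : AddSubgroup (Fin n → GF4) :=
    { carrier := y '' ρ'.ker
      zero_mem' := ⟨1, one_mem _, one.1⟩
      add_mem' := by
        rintro _ _ ⟨a, ha, rfl⟩ ⟨b, hb, rfl⟩
        exact ⟨a * b, mul_mem ha hb, by rw [(mul a b).1, hK a ha]⟩
      neg_mem' := by
        rintro _ ⟨a, ha, rfl⟩
        exact ⟨a, ha, (neg_eq_of_add_eq_zero_right (gf4_vec_add_self _)).symm⟩ }
  have hb1 : ρ.ker.relIndex ρ'.ker ≤ 2 ^ n * 2 := by
    rw [hrel]
    refine (Set.ncard_le_ncard (t := (Y : Set _) ×ˢ ({0, 1} : Set GF4)) ?_).trans ?_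
    · rintro _ ⟨a, ha, rfl⟩
      exact ⟨⟨a, ha, rfl⟩, hs a ha⟩
    · rw [Set.ncard_prod, hc2]
      refine Nat.mul_le_mul_right _ (card_le_of_iso Y ?_)
      rintro _ ⟨a, ha, rfl⟩
      exact hyy a ha
  have hpow : 2 ^ ((m + 1) * (m + 1)) = 2 ^ n * 2 * 2 ^ (m * m) := by rw [hn]; ring
  rw [← relIndex_mul_index hle, hpow]
  refine ⟨Nat.mul_le_mul hb1 ih1, fun e => ?_⟩
  have e1 : ρ'.ker.index = 2 ^ (m * m) := by
    by_contra hn
    exact absurd e (Nat.mul_lt_mul_of_le_of_lt hb1 (lt_of_le_of_ne ih1 hn) (by positivity)).ne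
  rw [e1, Nat.mul_left_inj (by positivity), hrel] at e
  obtain ⟨W, w1, w2, w3⟩ := ih2 e1
  have hall : (fun a => (y a, s a)) '' ρ'.ker = (W : Set _) ×ˢ ({0, 1} : Set GF4) :=
    Set.eq_of_subset_of_ncard_le (by
      rintro _ ⟨a, ha, rfl⟩
      exact ⟨(w3 _).2 fun b => (hyfix a ha b).1, hs a ha⟩) (by
      rw [e, Set.ncard_prod, hc2, ← Nat.card_coe_set_eq, SetLike.coe_sort_coe, w1, hn, pow_mul]
      rfl)
  have hex : ∀ w ∈ W, ∀ c ∈ ({0, 1} : Set GF4), ∃ a ∈ ρ'.ker, y a = w ∧ s a = c :=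
    fun w hw c hc => by
      obtain ⟨a, ha, e⟩ : (w, c) ∈ (fun a => (y a, s a)) '' ρ'.ker := hall ▸ ⟨hw, hc⟩
      exact ⟨a, ha, Prod.ext_iff.1 e⟩
  let F := f.coprod (LinearMap.toSpanSingleton GF4 _ u)
  have hF : ∀ z, F z = f z.1 + z.2 • u := fun _ => rfl
  refine ⟨(W.prod ⊤).map F, ?_, ?_, fun x => ⟨?_, fun hx => ?_⟩⟩
  · rw [← Nat.card_congr (Submodule.equivMapOfInjective F (fun z z' e =>
      Prod.ext_iff.2 (inj e)) _).toEquiv, ← SetLike.coe_sort_coe, Nat.card_coe_set_eq,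
      Submodule.prod_coe, Set.ncard_prod, ← Nat.card_coe_set_eq, SetLike.coe_sort_coe, w1,
      Submodule.top_coe, Set.ncard_univ, Nat.card_eq_fintype_card, card_GF4, pow_succ]
  · rintro _ ⟨z, hz, rfl⟩ _ ⟨z', hz', rfl⟩
    simp [hF, U.herm_add_left, U.herm_add_right, U.herm_smul_left, U.herm_smul_right, fu, uf, hu.2,
      ← h2, w2 _ hz.1 _ hz'.1]
  · rintro ⟨z, hz, rfl⟩ b
    have h4 : ∀ w ∈ W, hermForm _ GF4 2 (y b) w = hermForm _ GF4 2 w (y b) := fun w hw => by
      obtain ⟨a, ha, rfl, -⟩ := hex w hw 0 (by simp)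
      exact (hyfix a ha b).2
    have h5 := h4 _ (W.smul_mem ω hz.1)
    rw [U.herm_smul_left, U.herm_smul_right, h4 _ hz.1, U.conj_apply] at h5
    have h6 : hermForm _ GF4 2 z.1 (y b) = 0 := by
      revert h5
      generalize hermForm _ GF4 2 z.1 (y b) = e
      revert e; decide
    rw [hF, map_add, map_smul, hfix, act', (w3 _).1 hz.1 b, h6, zero_smul, add_zero]
  · obtain ⟨a, ha, h4, h5⟩ := hex 0 W.zero_mem 1 (by simp)
    have h6 := hρ a x v
    rw [hx a, hy, h4, h5, map_zero, add_zero, one_smul, U.herm_add_right, add_eq_left] at h6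
    refine ⟨(p x, hermForm _ GF4 2 x v), ⟨(w3 _).2 fun b => ?_, trivial⟩, (dec x h6).symm⟩
    have := hx b
    rw [dec x h6, map_add, map_smul, hfix, act', add_assoc, ← add_smul] at this
    simpa [hp, hpu] using (inj this).1

theorem bnd (hA : ∀ a : A, a * a = 1) (m : ℕ) : Bnd A (2 * m) m := by
  induction m with
  | zero =>
    intro ρ _
    have : Subsingleton (Fin (2 * 0) → GF4) := inferInstanceAs (Subsingleton (Fin 0 → GF4))
    have : ρ.ker = ⊤ := eq_top_iff.2 fun a _ => LinearMap.ext fun x => Subsingleton.elim _ _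
    exact ⟨by simp [this], fun _ => ⟨⊥, by simp, fun x _ y _ => by
      rw [Subsingleton.elim x 0, U.herm_zero_left],
      fun x => ⟨fun _ _ => Subsingleton.elim _ _, fun _ => Subsingleton.elim x 0⟩⟩⟩
  | succ m ih => exact step hA rfl ih

end EU

variable {G : Type*} [Group G] {D : Set G}

theorem UCoord.exists_rep {n : ℕ} {τ : (Fin n → GF4) → G} (h : UCoord n τ D) (hn : 2 ≤ n)
    {B : Subgroup G} (hB : B ≤ closure D) (h2 : ∀ b ∈ B, b * b = 1) :
    ∃ ρ : B →* End GF4 (Fin n → GF4),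
      (∀ a x y, hermForm n GF4 2 (ρ a x) (ρ a y) = hermForm n GF4 2 x y) ∧
        ∀ a, ∀ v ∈ uS n, ρ a v ∈ uS n ∧ τ (ρ a v) = a * τ v * (a : G)⁻¹ := by
  have scal : ∀ g : End GF4 (Fin n → GF4), (∀ v ∈ uS n, g v ∈ uS n ∧ τ (g v) = τ v) →
      ∃ e : GF4, e ≠ 0 ∧ ∀ x, g x = e • x := fun g hg => by
    obtain ⟨e, he⟩ := U.exists_scalar_of_fix_lines (q := 2) hn (M := LinearMap.toMatrix' g)
      fun u hu => by
        rw [LinearMap.toMatrix'_mulVec]
        by_cases h0 : u = 0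
        · exact ⟨0, by simp [h0]⟩
        · exact (h.coord.inj _ (hg u ⟨h0, hu⟩).1 u ⟨h0, hu⟩).1 (hg u ⟨h0, hu⟩).2
    simp only [LinearMap.toMatrix'_mulVec] at he
    obtain ⟨v, hv⟩ := exists_mem_uS hn
    exact ⟨e, fun e0 => (hg v hv).1.1 (by rw [he, e0, zero_smul]), he⟩
  let R : G → End GF4 (Fin n → GF4) → Prop := fun a g =>
    (∀ x, g (g x) = x) ∧ ∀ v ∈ uS n, g v ∈ uS n ∧ τ (g v) = a * τ v * a⁻¹
  have uniq : ∀ a ∈ B, ∀ g g', R a g → R a g' → g = g' := fun a ha g g' hg hg' => by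
    obtain ⟨e, -, he⟩ := scal (g' * g) fun v hv => ⟨(hg'.2 _ (hg.2 v hv).1).1, by
      rw [End.mul_apply, (hg'.2 _ (hg.2 v hv).1).2, (hg.2 v hv).2,
        show a * (a * τ v * a⁻¹) * a⁻¹ = (a * a) * τ v * (a * a)⁻¹ by group, h2 a ha]
      simp⟩
    have h3 : ∀ x, g x = e • g' x := fun x => by
      rw [← map_smul, ← he, End.mul_apply, hg'.1]
    obtain ⟨v, hv⟩ := exists_mem_uS hn
    have h4 := hg.1 v
    rw [h3, h3, map_smul, hg'.1, smul_smul, ← sub_eq_zero, ← one_smul GF4 v, smul_smul, ← sub_smul,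
      smul_eq_zero, or_iff_left hv.1] at h4
    have h5 : e = 1 := by revert h4; clear he h3; revert e; decide
    exact LinearMap.ext fun x => by rw [h3, h5, one_smul]
  have ex : ∀ a : B, ∃ g, R a g ∧
      ∀ x y, hermForm n GF4 2 (g x) (g y) = hermForm n GF4 2 x y := fun a => by
    obtain ⟨f, ⟨g, hg, hg'⟩, hf⟩ := h.coord.exists_linear (T := uS n) subset_rfl
      (fun f => ∃ g : End GF4 (Fin n → GF4), (∀ v, f v = g v) ∧
        ∀ v w, hermForm n GF4 2 (g v) (g w) = hermForm n GF4 2 v w)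
      ⟨LinearMap.id, fun _ => rfl, fun _ _ => rfl⟩ (by
        rintro u hu f ⟨g, h1, h3⟩
        exact ⟨{ toFun := fun v => g v + hermForm n GF4 2 (g v) u • u
                 map_add' := fun y z => by rw [map_add, U.herm_add_left, add_smul]; abel
                 map_smul' := fun c y => by
                   rw [map_smul, U.herm_smul_left, mul_smul, smul_add]; rfl },
          fun v => by simp [h1], fun v w => (herm_transv hu.2 _ _).trans (h3 v w)⟩)
      (g := a) (by rw [h.coord.image_eq]; exact hB a.2)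
    simp only [hg] at hf
    obtain ⟨e, h0, he⟩ := scal (g * g) fun v hv => ⟨(hf _ (hf v hv).1).1, by
      rw [End.mul_apply, (hf _ (hf v hv).1).2, (hf v hv).2,
        show a * (a * τ v * (a : G)⁻¹) * (a : G)⁻¹ = (a * a) * τ v * (a * a : G)⁻¹ by group,
        h2 _ a.2]
      simp⟩
    refine ⟨e • g, ⟨fun x => ?_, fun v hv => ⟨smul_mem_uS (hf v hv).1 h0,
      (h.tau_smul (hf v hv).1 h0).trans (hf v hv).2⟩⟩, fun x y => ?_⟩
    · have h7 : e * (e * e) = 1 := by clear he; revert e; decide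
      rw [LinearMap.smul_apply, LinearMap.smul_apply, map_smul, ← End.mul_apply, he, smul_smul,
        smul_smul, mul_assoc, h7, one_smul]
    · rw [LinearMap.smul_apply, LinearMap.smul_apply, U.herm_smul_left, U.herm_smul_right, hg',
        ← mul_assoc, gf4_mul_conj h0, one_mul]
  choose ρ h3 h4 using ex
  have act : ∀ a b : B, ∀ v ∈ uS n, ρ a (ρ b v) ∈ uS n ∧
      τ (ρ a (ρ b v)) = (a * b : G) * τ v * (a * b : G)⁻¹ := fun a b v hv =>
    ⟨((h3 a).2 _ ((h3 b).2 v hv).1).1, by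
      rw [((h3 a).2 _ ((h3 b).2 v hv).1).2, ((h3 b).2 v hv).2]; group⟩
  have comm : ∀ a b : B, ρ a * ρ b * ρ a = ρ b := fun a b => uniq b b.2 _ _ ⟨fun x => by
    simp only [End.mul_apply, (h3 a).1, (h3 b).1], fun v hv => by
      have := act a b _ ((h3 a).2 v hv).1
      refine ⟨this.1, this.2.trans ?_⟩
      rw [((h3 a).2 v hv).2, show (a * b : G) * (a * τ v * (a : G)⁻¹) * (a * b : G)⁻¹ =
        (a * b * a : G) * τ v * (a * b * a : G)⁻¹ by group, comm_of_sq_eq_one h2 a.2 b.2,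
        mul_assoc (b : G), h2 _ a.2, mul_one]⟩ (h3 b)
  refine ⟨⟨⟨ρ, uniq 1 (one_mem _) _ _ (h3 1) ⟨fun _ => rfl, fun v hv => ⟨hv, by simp⟩⟩⟩,
    fun a b => uniq _ (a * b).2 _ _ (h3 _) ⟨fun x => ?_, act a b⟩⟩, h4, fun a => (h3 a).2⟩
  have := LinearMap.congr_fun (comm a b) (ρ b x)
  exact this.trans ((h3 b).1 x)

theorem sq_of_mem_sup {B : Subgroup G} (h2 : ∀ b ∈ B, b * b = 1) {x : G} (hx : x * x = 1)
    (hc : ∀ b ∈ B, Commute b x) : ∀ b ∈ B ⊔ zpowers x, b * b = 1 := fun b hb => by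
  rcases (mem_sup_zpowers_of_comm hx hc).1 hb with e | e
  · exact h2 b e
  · have h1 : Commute b x := by simpa [mul_assoc, hx] using (hc _ e).mul_left (Commute.refl x)
    have := h2 _ e
    rwa [mul_assoc, ← mul_assoc x, ← h1.eq, mul_assoc b, hx, mul_one] at this

theorem exists_commute_of_odd [Finite G] {B : Subgroup G} (hB : IsPGroup 2 B) {O : Set G}
    (hO : Odd O.ncard) (hinv : ∀ b ∈ B, ∀ x ∈ O, b * x * b⁻¹ ∈ O) :
    ∃ x ∈ O, ∀ b ∈ B, Commute b x := by
  letI : MulAction B O :=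
    { smul := fun b x => ⟨b * x * (b : G)⁻¹, hinv b b.2 x x.2⟩
      one_smul := fun x => Subtype.ext (by change (1 : B) * x.1 * ((1 : B) : G)⁻¹ = x; simp)
      mul_smul := fun a b x => Subtype.ext (by
        change (a * b : B) * x.1 * ((a * b : B) : G)⁻¹ = a * (b * x.1 * (b : G)⁻¹) * (a : G)⁻¹
        simp only [coe_mul]; group) }
  obtain ⟨x, hx⟩ := hB.nonempty_fixed_point_of_prime_not_dvd_card O (by
    rw [Nat.card_coe_set_eq]; exact hO.not_two_dvd_nat)
  exact ⟨x, x.2, fun b hb => commute_of_conj_eq (congrArg Subtype.val (hx ⟨b, hb⟩))⟩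

/-- Nine vectors of a totally isotropic plane. -/
def nineVec : Fin 9 → Fin 6 → GF4 :=
  ![![1, 1, 0, 0, 0, 0], ![0, 0, 1, 1, 0, 0], ![0, 0, 0, 0, 1, 1], ![1, 1, 1, 1, 0, 0],
    ![1, 1, 0, 0, 1, 1], ![0, 0, 1, 1, 1, 1], ![1, 1, ω, ω, 0, 0], ![1, 1, 0, 0, ω, ω],
    ![0, 0, 1, 1, ω, ω]]

/-- Three test vectors. -/
def threeVec : Fin 3 → Fin 6 → GF4 :=
  ![![1, ω, 0, 0, 0, 0], ![0, 0, 1, ω, 0, 0], ![0, 0, 0, 0, 1, ω]]

/-- A sublist of the nine vectors. -/
def nineList (ε : Fin 9 → ZMod 2) : List (Fin 6 → GF4) :=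
  ((List.finRange 9).filter fun i => ε i = 1).map nineVec

theorem nine_inv : ∃ g : (Fin 3 → Fin 6 → GF4) → Fin 9 → ZMod 2, ∀ ε, g (fun k =>
    ((nineList ε).map fun u => hermForm 6 GF4 2 (threeVec k) u • u).sum) = ε :=
  ⟨fun x =>
    ![(ω * x 0 0).re + (ω * x 1 0).re + (ω * x 2 0).re,
      (ω * x 1 2).re + (ω * x 1 0).re + (ω * x 2 2).re,
      (ω * x 2 4).re + (ω * x 2 0).re + (ω * x 2 2).re, (ω * x 1 0).re + (ω * x 1 0).im,
      (ω * x 2 0).re + (ω * x 2 0).im, (ω * x 2 2).re + (ω * x 2 2).im, (ω * x 1 0).im,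
      (ω * x 2 0).im, (ω * x 2 2).im], by decide +kernel⟩

namespace S22

variable [Finite G] (h : S22 D)
include h

theorem elem_fix_aux {d : G} (hd : d ∈ D) {τ : (Fin 6 → GF4) → G} (hτ : UCoord 6 τ (loc D d))
    {B : Subgroup G} (hB : B ≤ closure D) (h2 : ∀ b ∈ B, b * b = 1) (hdB : d ∈ B) :
    ∃ ρ : B →* End GF4 (Fin 6 → GF4),
      (∀ a x y, hermForm 6 GF4 2 (ρ a x) (ρ a y) = hermForm 6 GF4 2 x y) ∧
        (∀ a, ∀ v ∈ uS 6, ρ a v ∈ uS 6 ∧ τ (ρ a v) = a * τ v * (a : G)⁻¹) ∧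
          Nat.card B ≤ 2 * ρ.ker.index := by
  obtain ⟨ρ, h3, h4⟩ := hτ.exists_rep (by norm_num) (fun b hb =>
    h.mem_closure_loc hd (hB hb) (comm_of_sq_eq_one h2 hb hdB)) h2
  refine ⟨ρ, h3, h4, ?_⟩
  rw [← ρ.ker.card_mul_index]
  refine Nat.mul_le_mul_right _ ?_
  have : ρ.ker ≤ zpowers ⟨d, hdB⟩ := fun a ha => by
    rw [mem_zpowers_invol (Subtype.ext (h.tt.sq hd)), Subtype.ext_iff, Subtype.ext_iff]
    refine h.eq_of_commute_loc hd fun w hw => commute_of_conj_eq ?_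
    obtain ⟨v, hv, rfl⟩ := hτ.coord.surj w hw
    rw [← (h4 a v hv).2, MonoidHom.mem_ker.1 ha, End.one_apply]
  refine (card_le_of_le this).trans ?_
  rw [Nat.card_zpowers, ← orderOf_coe, h.tt.tt.1 d hd]

theorem elem_fix_le {d : G} (hd : d ∈ D) {B : Subgroup G} (hB : B ≤ closure D)
    (h2 : ∀ b ∈ B, b * b = 1) (hdB : d ∈ B) : Nat.card B ≤ 2 ^ 10 := by
  obtain ⟨τ, hτ⟩ := h.m22.2.1 d hd
  obtain ⟨ρ, h3, -, h5⟩ := h.elem_fix_aux hd hτ hB h2 hdB
  have := (EU.bnd (fun a : B => Subtype.ext (h2 a a.2)) 3 ρ h3).1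
  omega

theorem mem_of_elem_fix {d : G} (hd : d ∈ D) {B : Subgroup G} (hB : B ≤ closure D)
    (h2 : ∀ b ∈ B, b * b = 1) (hdB : d ∈ B) (hc : Nat.card B = 2 ^ 10) {x : G}
    (hx : x ∈ closure D) (hx2 : x * x = 1) (hxB : ∀ b ∈ B, Commute b x) : x ∈ B := by
  have := h.elem_fix_le hd (sup_le hB (zpowers_le.2 hx)) (sq_of_mem_sup h2 hx2 hxB)
    (mem_sup_left hdB)
  rw [eq_of_le_of_card_ge (le_sup_left : B ≤ B ⊔ zpowers x) (hc ▸ this)]
  exact mem_sup_right (mem_zpowers x)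

theorem elem_fix_eq {d : G} (hd : d ∈ D) {B : Subgroup G} (hB : B ≤ closure D)
    (h2 : ∀ b ∈ B, b * b = 1) (hdB : d ∈ B) (hc : Nat.card B = 2 ^ 10) : B = closure (D ∩ B) := by
  obtain ⟨τ, hτ⟩ := h.m22.2.1 d hd
  obtain ⟨ρ, h3, h4, h5⟩ := h.elem_fix_aux hd hτ hB h2 hdB
  obtain ⟨h6, h7⟩ := EU.bnd (fun a : B => Subtype.ext (h2 a a.2)) 3 ρ h3
  obtain ⟨W, w1, w2, w3⟩ := h7 (by omega)
  have hW : ∀ z, hermForm 6 GF4 2 z z = 0 → (∀ w ∈ W, hermForm 6 GF4 2 z w = 0) → z ∈ W :=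
    fun z hz hz' => by
      have h8 := EU.card_le_of_iso (W ⊔ Submodule.span GF4 {z}).toAddSubgroup fun y hy => by
        obtain ⟨w, hw, _, hy', rfl⟩ := Submodule.mem_sup.1 hy
        obtain ⟨c, rfl⟩ := Submodule.mem_span_singleton.1 hy'
        simp [U.herm_add_left, U.herm_add_right, U.herm_smul_left, U.herm_smul_right, hz,
          hz' w hw, U.herm_comm_zero (hz' w hw), w2 w hw w hw]
      have h9 := AddSubgroup.eq_of_le_of_card_ge (H := W.toAddSubgroup)
        (K := (W ⊔ Submodule.span GF4 {z}).toAddSubgroup) (fun _ hy => Submodule.mem_sup_left hy)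
        (h8.trans (by rw [show Nat.card W.toAddSubgroup = 4 ^ 3 from w1]; norm_num))
      have : z ∈ W.toAddSubgroup := h9 ▸ Submodule.mem_sup_right (Submodule.mem_span_singleton_self z)
      exact this
  refine le_antisymm (fun b hb => ?_) ((closure_le _).2 Set.inter_subset_right)
  have hbb : ∀ x, ρ ⟨b, hb⟩ (ρ ⟨b, hb⟩ x) = x := fun x => by
    rw [← End.mul_apply, ← map_mul, show (⟨b, hb⟩ * ⟨b, hb⟩ : B) = 1 from Subtype.ext (h2 b hb),
      map_one, End.one_apply]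
  let N : End GF4 (Fin 6 → GF4) := ρ ⟨b, hb⟩ + 1
  have hN : ∀ v, N v = ρ ⟨b, hb⟩ v + v := fun v => rfl
  have hNN : ∀ v, N (N v) = 0 := fun v => by
    rw [hN, hN, map_add, hbb, add_comm v, gf4_vec_add_self]
  have hNh : ∀ v w, hermForm 6 GF4 2 (N v) w = hermForm 6 GF4 2 v (N w) := fun v w => by
    rw [hN, hN, U.herm_add_left, U.herm_add_right, ← h3 ⟨b, hb⟩ v (ρ _ w), hbb]
  obtain ⟨l, -, h8, h9⟩ := RU.herm_decomp 6 N hNh hNN (by omega)
  have h10 : ∀ u ∈ l, ∀ w ∈ l, hermForm 6 GF4 2 u w = 0 := fun u hu w hw => by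
    obtain ⟨-, y, rfl⟩ := h8 u hu
    obtain ⟨-, z, rfl⟩ := h8 w hw
    rw [hNh, hNN, U.herm_zero_right]
  have h11 : ∀ u ∈ l, u ∈ uS 6 := fun u hu => ⟨(h8 u hu).1, h10 u hu u hu⟩
  have h12 : ∀ u ∈ l, τ u ∈ D ∩ B := fun u hu => by
    have h13 := (hτ.coord.mem u (h11 u hu)).1
    refine ⟨h13, h.mem_of_elem_fix hd hB h2 hdB hc (subset_closure h13) (h.tt.sq h13)
      fun a ha => commute_of_conj_eq ?_⟩
    rw [← (h4 ⟨a, ha⟩ u (h11 u hu)).2, (w3 u).1 (hW u (h11 u hu).2 fun w hw => ?_)]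
    obtain ⟨-, y, rfl⟩ := h8 u hu
    rw [hNh, hN, (w3 w).1 hw, gf4_vec_add_self, U.herm_zero_right]
  have h13 : (l.map τ).prod ∈ closure (D ∩ B) := list_prod_mem fun a ha => by
    obtain ⟨u, hu, rfl⟩ := List.mem_map.1 ha
    exact subset_closure (h12 u hu)
  have h14 := h.eq_of_commute_loc hd (z := (l.map τ).prod⁻¹ * b) (SameOn.one_iff.1
    (SameOn.iff_inv_mul.1 fun w hw => by
      obtain ⟨v, hv, rfl⟩ := hτ.coord.surj w hw
      rw [← (RU.act_list hτ l h11 h10 hv).2, ← h9, hN, add_comm, add_assoc, gf4_vec_add_self,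
        add_zero, (h4 _ v hv).2]))
  rw [← (closure (D ∩ B)).mul_mem_cancel_left (inv_mem h13)]
  rcases h14 with e | e <;> rw [e]
  exacts [one_mem _, subset_closure ⟨hd, hdB⟩]

theorem ncard_pairs : {x | ∃ c d, CL D [c, d] ∧ c * d = x}.ncard = 1216215 := by
  obtain ⟨l, hab, hl⟩ := h.m22.primTo.exists_CL (m := 2) (by norm_num)
  match l, hab, hl with
  | [a, b], hab, _ =>
  have h1 := card_eq_ncard_mul (closure D) (a * b) (O := {x | ∃ c d, CL D [c, d] ∧ c * d = x})
    fun x => ⟨by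
      rintro ⟨c, d, hcd, rfl⟩
      obtain ⟨g, hg, e⟩ := h.m22.primTo.exists_conj hab hcd (by simp) rfl
      simp only [List.map_cons, List.map_nil, List.cons.injEq, and_true] at e
      exact ⟨g, hg, by rw [← e.1, ← e.2]; group⟩, by
      rintro ⟨g, -, rfl⟩
      exact ⟨_, _, h.cl_conj hab g, by group⟩⟩
  rw [h.card_closure, h.card_prod hab] at h1
  omega

/-- An element of `⟨D⟩` fixing four points of a hexad fixes the other two. -/
theorem commute_of_hexad {a b c p q r t : G} (h1 : CL D [a, b, c, p, q, r])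
    (h2 : a * b * c = p * q * r) (ht : t ∈ closure D) (tc : Commute t c) (tp : Commute t p)
    (tq : Commute t q) (tr : Commute t r) : Commute t a := by
  have h3 := (CL.cons_iff.1 (h1.perm (l' := [c, a, b, p, q, r])
    (List.perm_middle (l₁ := [a, b]) (l₂ := [p, q, r])))).2
  have hn := h3.nodup
  simp only [List.nodup_cons, List.mem_cons, List.not_mem_nil, or_false, not_or] at hn
  have key : ∀ y ∈ loc D c, Commute y p → Commute y q → ∀ z ∈ [r, a, b], Commute y z :=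
    fun y hy yp yq z hz => by
      refine CL.commute_of_prod (l := [r, a, b]) h.tt (CL.left (r := [c, p, q]) (h1.perm
        (List.perm_append_comm (l₁ := [a, b, c, p, q]) (l₂ := [r])))) (by simp)
        hy.1 ?_ hz
      have : [r, a, b].prod = r * (p * q * r) * c⁻¹ := by rw [← h2]; simp [mul_assoc]
      rw [this, ← ((h1.comm p (by simp) r (by simp)).mul_left
        ((h1.comm q (by simp) r (by simp))) |>.mul_left (Commute.refl r)).eq, mul_assoc (p * q),
        h.tt.sq (h1.mem r (by simp)), mul_one]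
      exact (yp.mul_right yq).mul_right hy.2.2.symm.inv_right
  exact (h.m22.2.1 c (h1.mem c (by simp))).commute_of_line
    (h.mem_closure_loc (h1.mem c (by simp)) ht tc) (h3.mem p (by simp)) (h3.mem q (by simp))
    (h3.mem r (by simp)) (h3.mem a (by simp)) (h1.comm p (by simp) q (by simp)) hn.2.2.1.1
    (Ne.symm hn.2.2.1.2) (Ne.symm hn.2.2.2.1) (fun y hy yp yq => key y hy yp yq r (by simp))
    (fun y hy yp yq => key y hy yp yq a (by simp)) tp tq tr

/-- Elementary abelian `2`-subgroups have order at most `2 ^ 10`, and those of this order are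
generated by transpositions. -/
theorem elem {B : Subgroup G} (hB : B ≤ closure D) (h2 : ∀ b ∈ B, b * b = 1) :
    Nat.card B ≤ 2 ^ 10 ∧ (Nat.card B = 2 ^ 10 → B = closure (D ∩ B)) := by
  obtain ⟨_, ⟨a, b, hab, rfl⟩, hj⟩ := exists_commute_of_odd (B := B)
    (fun x => ⟨1, Subtype.ext (by simpa [pow_two] using h2 x x.2)⟩)
    (O := {x | ∃ c d, CL D [c, d] ∧ c * d = x}) (by rw [h.ncard_pairs]; decide) (by
      rintro g - _ ⟨c, d, hcd, rfl⟩
      exact ⟨_, _, h.cl_conj hcd g, by group⟩)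
  have ha := hab.mem a (by simp)
  have hb := hab.mem b (by simp)
  have hjj : a * b * (a * b) = 1 := by simpa using hab.prod_sq h.tt
  -- enlarge `B` so that it contains `a * b`
  have hB1 : B ⊔ zpowers (a * b) ≤ closure D :=
    sup_le hB (zpowers_le.2 (mul_mem (subset_closure ha) (subset_closure hb)))
  have h21 := sq_of_mem_sup h2 hjj hj
  have hj1 : a * b ∈ B ⊔ zpowers (a * b) := mem_sup_right (mem_zpowers _)
  suffices H : Nat.card ↥(B ⊔ zpowers (a * b)) ≤ 2 ^ 10 ∧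
      (Nat.card ↥(B ⊔ zpowers (a * b)) = 2 ^ 10 → a ∈ B ⊔ zpowers (a * b)) by
    have h3 := card_le_of_le (le_sup_left : B ≤ B ⊔ zpowers (a * b))
    refine ⟨h3.trans H.1, fun e => ?_⟩
    have h4 := eq_of_le_of_card_ge (le_sup_left : B ≤ B ⊔ zpowers (a * b)) (e ▸ H.1)
    exact h.elem_fix_eq ha hB h2 (h4 ▸ H.2 (h4 ▸ e)) e
  generalize B ⊔ zpowers (a * b) = B at *
  have hB0 : (B ⊓ centralizer {a}) ⊔ zpowers a ≤ closure D :=
    sup_le (inf_le_left.trans hB1) (zpowers_le.2 (subset_closure ha))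
  have hc0 : ∀ x ∈ B ⊓ centralizer {a}, Commute x a := fun x hx =>
    mem_centralizer_singleton_iff.1 hx.2
  have h20 := sq_of_mem_sup (B := B ⊓ centralizer {a}) (fun x hx => h21 x hx.1) (h.tt.sq ha) hc0
  have ha0 : a ∈ (B ⊓ centralizer {a}) ⊔ zpowers a := mem_sup_right (mem_zpowers a)
  have h3 := h.elem_fix_le ha hB0 h20 ha0
  by_cases hc : B ≤ centralizer {a}
  · rw [inf_eq_left.2 hc] at h3 ha0
    have h4 := card_le_of_le (le_sup_left : B ≤ B ⊔ zpowers a)
    exact ⟨h4.trans h3, fun e =>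
      eq_of_le_of_card_ge (le_sup_left : B ≤ B ⊔ zpowers a) (e ▸ h3) ▸ ha0⟩
  obtain ⟨t, ht, hta⟩ := SetLike.not_le_iff_exists.1 hc
  rw [mem_centralizer_singleton_iff] at hta
  have hsw : ∀ x ∈ B, ¬ Commute x a → x * a * x⁻¹ = b ∧ x * b * x⁻¹ = a := fun x hx hn =>
    (h.conj_pair hab (comm_of_sq_eq_one h21 hx hj1)).resolve_left fun e =>
      hn (commute_of_conj_eq e.1)
  have haB : a ∉ B := fun e => hta (comm_of_sq_eq_one h21 ht e)
  have h4 : Nat.card B = 2 * Nat.card ↥(B ⊓ centralizer {a}) :=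
    card_eq_two_mul_of_mul_mem inf_le_left ht (fun e => hta (hc0 t e)) fun x hx hx' =>
      ⟨mul_mem hx ht, mem_centralizer_singleton_iff.2 (commute_of_conj_eq (by
        rw [show x * t * a * (x * t)⁻¹ = x * (t * a * t⁻¹) * x⁻¹ by group, (hsw t ht hta).1,
          (hsw x hx fun e => hx' ⟨hx, mem_centralizer_singleton_iff.2 e⟩).2]))⟩
  have h5 := card_eq_two_mul_of_mul_mem (le_sup_left : B ⊓ centralizer {a} ≤ _) ha0
    (fun e => haB e.1) fun x hx hx' =>
      ((mem_sup_zpowers_of_comm (h.tt.sq ha) hc0).1 hx).resolve_left hx'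
  refine ⟨by omega, fun e => absurd ?_ hta⟩
  have h6 : Nat.card ↥((B ⊓ centralizer {a}) ⊔ zpowers a) = 2 ^ 10 := by omega
  have h7 := h.elem_fix_eq ha hB0 h20 ha0 h6
  generalize hB' : (B ⊓ centralizer {a}) ⊔ zpowers a = B' at *
  have hne : a ≠ b := by simpa using hab.nodup
  have h8 : ∀ x ∈ D ∩ B', x ≠ a → x ≠ b → Commute t x := fun x hx xa xb => by
    rcases (mem_sup_zpowers_of_comm (h.tt.sq ha) hc0).1 (hB' ▸ hx.2) with e | e
    · exact comm_of_sq_eq_one h21 ht e.1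
    · rcases h.conj_pair (a := x) (b := a) ⟨by simpa using xa, by simp [hx.1, ha], by
        have : Commute x a := comm_of_sq_eq_one h20 hx.2 ha0
        simp [this, this.symm]⟩ (comm_of_sq_eq_one h21 ht e.1) with e' | e'
      · exact commute_of_conj_eq e'.1
      · exact absurd (e'.2.symm.trans (hsw t ht hta).1) xb
  obtain ⟨c, hc, ca, cb⟩ : ∃ c ∈ D ∩ B', c ≠ a ∧ c ≠ b := by
    by_contra hn
    have h9 : B' ≤ closure {a, b} := h7 ▸ closure_mono fun x hx => by
      by_contra e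
      exact hn ⟨x, hx, not_or.1 e⟩
    have h10 := Set.ncard_le_ncard (s := B') (t := {1, a, b, a * b}) fun x hx =>
      mem_closure_pair_cases (h.tt.sq ha) (h.tt.sq hb) (hab.comm a (by simp) b (by simp)) (h9 hx)
    have := Set.ncard_insert_le 1 ({a, b, a * b} : Set G)
    have := Set.ncard_insert_le a ({b, a * b} : Set G)
    have := Set.ncard_insert_le b ({a * b} : Set G)
    rw [← Nat.card_coe_set_eq, SetLike.coe_sort_coe, h6] at h10
    rw [Set.ncard_singleton] at this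
    omega
  have hbB : b ∈ B' := by
    have : a * b ∈ B' := hB' ▸ mem_sup_left ⟨hj1, mem_centralizer_singleton_iff.2
      ((Commute.refl a).mul_left (hab.comm b (by simp) a (by simp)))⟩
    exact (B'.mul_mem_cancel_left ha0).1 this
  have hcm : ∀ x ∈ B', ∀ y ∈ B', Commute x y := fun x hx y hy => comm_of_sq_eq_one h20 hx hy
  obtain ⟨p, q, r, h9, h10, -⟩ := h.m22.exists_hexad (a := a) (b := b) (c := c)
    ⟨by simp [hne, ca.symm, cb.symm], by simp [ha, hb, hc.1],
      by simp [hcm _ ha0 _ hbB, hcm _ hbB _ ha0, hcm _ ha0 _ hc.2, hcm _ hc.2 _ ha0,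
        hcm _ hbB _ hc.2, hcm _ hc.2 _ hbB]⟩
  have h11 := h.eq_of_sameOn h10
  have hn := h9.nodup
  simp only [List.nodup_cons, List.mem_cons, List.not_mem_nil, or_false, not_or] at hn
  have h12 : ∀ x ∈ [p, q, r], x ∈ D ∩ B' := fun x hx => by
    have hx' := (CL.right (l := [a, b, c]) h9).mem x hx
    refine ⟨hx', h.mem_of_elem_fix ha hB0 h20 ha0 h6 (subset_closure hx') (h.tt.sq hx')
      fun y hy => (commute_of_mem_closure (fun z hz => ?_) (h7 ▸ hy)).symm⟩
    refine (CL.commute_of_prod h.tt (CL.right (l := [a, b, c]) h9) (by simp) hz.1 ?_ hx).symm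
    rw [← h11]
    exact hcm _ hz.2 _ (by simpa using mul_mem ha0 (mul_mem hbB hc.2))
  exact h.commute_of_hexad h9 (by simpa [mul_assoc] using h11) (hB1 ht) (h8 c hc ca cb)
    (h8 p (h12 p (by simp)) (Ne.symm hn.1.2.2.1) (Ne.symm hn.2.1.2.1))
    (h8 q (h12 q (by simp)) (Ne.symm hn.1.2.2.2.1) (Ne.symm hn.2.1.2.2.1))
    (h8 r (h12 r (by simp)) (Ne.symm hn.1.2.2.2.2) (Ne.symm hn.2.1.2.2.2))

theorem exists_elem : ∃ B ≤ closure D, (∀ b ∈ B, b * b = 1) ∧ Nat.card B = 2 ^ 10 := by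
  obtain ⟨d, hd⟩ := h.m22.1.nonempty
  obtain ⟨τ, hτ⟩ := h.m22.2.1 d hd
  have h1 : ∀ i j, hermForm 6 GF4 2 (nineVec i) (nineVec j) = 0 := by decide +kernel
  have h2 : ∀ i, nineVec i ∈ uS 6 := fun i => ⟨by revert i; decide +kernel, h1 i i⟩
  have h3 : ∀ k, threeVec k ∈ uS 6 := fun k => ⟨by revert k; decide +kernel,
    by revert k; decide +kernel⟩
  have h4 : ∀ i, τ (nineVec i) ∈ loc D d := fun i => hτ.coord.mem _ (h2 i)
  have hm : ∀ ε, ∀ u ∈ nineList ε, ∃ i, nineVec i = u := fun ε u hu =>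
    let ⟨i, _, e⟩ := List.mem_map.1 hu; ⟨i, e⟩
  let S : Set G := insert d (Set.range fun i => τ (nineVec i))
  have hS : S ⊆ D := by rintro _ (rfl | ⟨i, rfl⟩); exacts [hd, (h4 i).1]
  have hc : ∀ x ∈ S, ∀ y ∈ S, Commute x y := by
    rintro _ (rfl | ⟨i, rfl⟩) _ (rfl | ⟨j, rfl⟩)
    exacts [Commute.refl _, (h4 j).2.2, (h4 i).2.2.symm, (hτ.commute_iff' (h2 i) (h2 j)).2 (h1 i j)]
  have hsq : ∀ b ∈ closure S, b * b = 1 := fun b hb => by
    induction hb using closure_induction_left with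
    | one => simp
    | mul_left x hx y hy ih =>
      rw [mul_assoc, ← mul_assoc y, ← (commute_of_mem_closure (hc x hx) hy).eq, mul_assoc, ih,
        mul_one, h.tt.sq (hS hx)]
    | inv_mul_cancel x hx y hy ih =>
      rw [h.tt.inv (hS hx), mul_assoc, ← mul_assoc y, ← (commute_of_mem_closure (hc x hx) hy).eq,
        mul_assoc, ih, mul_one, h.tt.sq (hS hx)]
  refine ⟨closure S, closure_mono hS, hsq, le_antisymm (h.elem (closure_mono hS) hsq).1 ?_⟩
  have hdS : d ∈ closure S := subset_closure (Or.inl rfl)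
  have hb : ∀ ε, ((nineList ε).map τ).prod ∈ closure S := fun ε => list_prod_mem fun a ha => by
    obtain ⟨u, hu, rfl⟩ := List.mem_map.1 ha
    obtain ⟨i, rfl⟩ := hm ε u hu
    exact subset_closure (Or.inr ⟨i, rfl⟩)
  have act := fun ε k => RU.act_list hτ (nineList ε) (fun u hu => by
    obtain ⟨i, rfl⟩ := hm ε u hu; exact h2 i) (fun u hu w hw => by
    obtain ⟨i, rfl⟩ := hm ε u hu; obtain ⟨j, rfl⟩ := hm ε w hw; exact h1 i j) (h3 k)
  have key : ∀ ε ε', SameOn (loc D d) ((nineList ε).map τ).prod ((nineList ε').map τ).prod →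
      ε = ε' := fun ε ε' e => by
    obtain ⟨g, hg⟩ := nine_inv
    refine (hg ε).symm.trans ((congrArg g (funext fun k => ?_)).trans (hg ε'))
    obtain ⟨c, hc⟩ := (hτ.coord.inj _ (act ε k).1 _ (act ε' k).1).1 (by
      rw [(act ε k).2, (act ε' k).2, e _ (hτ.coord.mem _ (h3 k))])
    have h5 : ∀ ε, hermForm 6 GF4 2 (threeVec k + ((nineList ε).map fun u =>
        hermForm 6 GF4 2 (threeVec k) u • u).sum) (nineVec (k.castLE (by norm_num))) = ⟨1, 1⟩ :=
      fun ε => by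
        rw [U.herm_add_left, RU.herm_list_sum _ _ _ fun u hu => by
          obtain ⟨i, rfl⟩ := hm ε u hu; exact h1 i _, add_zero]
        clear hc; revert k; decide +kernel
    have h6 := h5 ε
    rw [hc, U.herm_smul_left, h5, mul_eq_right₀ (by decide)] at h6
    rwa [h6, one_smul, add_right_inj] at hc
  refine le_of_eq_of_le (by simp) (Nat.card_le_card_of_injective
    (fun z : Bool × (Fin 9 → ZMod 2) => (⟨cond z.1 d 1 * ((nineList z.2).map τ).prod,
      mul_mem (by cases z.1; exacts [one_mem _, hdS]) (hb _)⟩ : closure S)) fun z z' e => ?_)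
  have e := congrArg Subtype.val e
  have h5 : ∀ z : Bool × (Fin 9 → ZMod 2), SameOn (loc D d)
      (cond z.1 d 1 * ((nineList z.2).map τ).prod) ((nineList z.2).map τ).prod := fun z =>
    SameOn.drop (fun w hw => by cases z.1; exacts [Commute.one_left _, hw.2.2]) fun w hw =>
      ⟨h.inv _ w hw.1, by
        rw [← conj_eq_of_commute (comm_of_sq_eq_one hsq (hb z.2) hdS)]
        simpa [conj_inj] using hw.2.1, by
        rw [← conj_eq_of_commute (comm_of_sq_eq_one hsq (hb z.2) hdS), commute_conj_iff']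
        exact hw.2.2⟩
  have h6 := key _ _ ((h5 z).symm.trans ((SameOn.of_eq e).trans (h5 z')))
  refine Prod.ext ?_ h6
  simp only [h6, mul_left_inj] at e
  have := ne_one h.tt.tt hd
  revert e
  cases z.1 <;> cases z'.1 <;> simp [this, this.symm]

end S22

end Cfsg.Agent.TT
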