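import Mathlib
import Cfsg.Agent.TT.RowInv23
import Cfsg.Agent.TT.R22Elem
import Cfsg.Agent.TT.J23

/-! Elementary abelian 2-subgroups of groups of type `M(22)`, `M(23)`. -/

set_option autoImplicit false

namespace Cfsg.Agent.TT

open Subgroup

variable {G : Type*} [Group G] {D : Set G}

theorem M22g.ea [Finite G] (h : M22g D) (hg : closure D = ⊤) (hZ : center G = ⊥) {B : Subgroup G}
    (hB : IsElementaryAbelian 2 B) :
    Nat.card B ≤ 2 ^ 10 ∧ (Nat.card B = 2 ^ 10 → B = closure (D ∩ B)) :=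
  S22.elem ⟨h, (group_of_class (h.1.isClass hg)).2.1, fun _ e =>
    mem_bot.1 (hZ ▸ mem_center_of_commute hg e)⟩ (hg ▸ le_top) fun b hb => by
    rw [← sq, hB.2 b hb]

theorem M23g.ea [Finite G] (h : M23g D) (hg : closure D = ⊤) (hZ : center G = ⊥) {B : Subgroup G}
    (hB : IsElementaryAbelian 2 B) :
    Nat.card B ≤ 2 ^ 11 ∧ (Nat.card B = 2 ^ 11 → B = closure (D ∩ B)) := by
  have : Fact (Nat.Prime 2) := ⟨Nat.prime_two⟩
  obtain ⟨T, hT⟩ := IsPGroup.exists_le_sylow (p := 2) (P := B) fun x =>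
    ⟨1, Subtype.ext (by simpa using hB.2 x x.2)⟩
  obtain ⟨h1, h2⟩ := (h.sylow_base (group_of_class (h.1.isClass hg)) hZ T).2.2.2.2 B hT hB
  refine ⟨h1, fun e => le_antisymm ?_ ((closure_le _).2 Set.inter_subset_right)⟩
  conv_lhs => rw [h2 e]
  exact closure_mono fun d hd => ⟨hd.1, by rw [h2 e]; exact subset_closure hd⟩

end Cfsg.Agent.TT
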