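import Mathlib
import Cfsg.Agent.TT.HallCov
import Cfsg.Agent.TT.TypeU
import Cfsg.Agent.Class.FormedSpU

/-! Unitary quotients. -/

set_option autoImplicit false

namespace Cfsg.Agent.TT

open Cfsg Subgroup Cfsg.Agent.Class Module

universe u

variable {G : Type u} [Group G] {D : Set G} {n : ℕ}

local notation "𝐡" => hermForm n GF4 2
local notation "σ" => U.conj GF4 2

theorem gf4_norm {c : GF4} (h : σ c = c) (h0 : c ≠ 0) : c = 1 := by
  rw [U.conj_apply] at h; revert c; decide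

theorem herm_eq_one {w : Fin n → GF4} (h : 𝐡 w w ≠ 0) : 𝐡 w w = 1 := gf4_norm (U.herm_conj w w) h

/-- A vector of norm one orthogonal to an orthonormal family and a few more vectors. -/
theorem exists_norm_one {j m : ℕ} (u : Fin j → Fin n → GF4) (x : Fin m → Fin n → GF4)
    (hu : ∀ i k, 𝐡 (u i) (u k) = if i = k then 1 else 0) (hn : j + 2 * m < n) :
    ∃ w, 𝐡 w w = 1 ∧ (∀ i, 𝐡 w (u i) = 0) ∧ ∀ i, 𝐡 w (x i) = 0 := by
  classical
  have hB := isHermSpace_hermB n GF4 2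
  let T := Submodule.span GF4 (Set.range (Sum.elim u x))
  let W := Class.perp (hermB n GF4 2) T
  have hT : finrank GF4 T ≤ j + m := by
    have := finrank_range_le_card (R := GF4) (Sum.elim u x)
    rwa [Fintype.card_sum, Fintype.card_fin, Fintype.card_fin] at this
  have hW : finrank GF4 T + finrank GF4 W = _ := hB.finrank_add_finrank_perp T
  have m1 : ∀ w ∈ W, ∀ i, 𝐡 w (u i) = 0 := fun w hw i =>
    Class.mem_perp.1 hw _ (Submodule.subset_span ⟨.inl i, rfl⟩)
  have m2 : ∀ w ∈ W, ∀ i, 𝐡 w (x i) = 0 := fun w hw i =>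
    Class.mem_perp.1 hw _ (Submodule.subset_span ⟨.inr i, rfl⟩)
  by_contra hc
  have iso : ∀ w ∈ W, 𝐡 w w = 0 := fun w hw => by
    by_contra h0
    exact hc ⟨w, herm_eq_one h0, m1 w hw, m2 w hw⟩
  have tot : ∀ v ∈ W, ∀ w ∈ W, 𝐡 v w = 0 := fun v hv w hw => by
    have k1 := iso _ (W.add_mem hv hw)
    have k2 := iso _ (W.add_mem hv (W.smul_mem (⟨0, 1⟩ : GF4) hw))
    simp only [U.herm_add_left, U.herm_add_right, U.herm_smul_left, U.herm_smul_right, iso v hv,
      iso w hw, ← U.herm_conj v w, U.conj_apply] at k1 k2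
    revert k1 k2
    generalize 𝐡 v w = c
    revert c
    decide
  let P : (Fin n → GF4) →ₗ[GF4] (Fin n → GF4) :=
    LinearMap.id - ∑ i, (hermB n GF4 2 (u i)).smulRight (u i)
  have hP : ∀ y, P y = y - ∑ i, 𝐡 y (u i) • u i := fun y => by simp [P]
  have hle : W ≤ Submodule.span GF4 (Set.range fun i => P (x i)) := fun w hw => by
    have h1 : w ∈ T := by
      rw [← hB.perp_perp T]
      exact Class.mem_perp.2 fun v hv => tot w hw v hv
    have h2 : P w = w := by simp [hP, m1 w hw]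
    rw [← h2]
    refine (Submodule.map_le_iff_le_comap.2 (Submodule.span_le.2 ?_)) (Submodule.mem_map_of_mem h1)
    rintro _ ⟨i | i, rfl⟩
    · have : P (u i) = 0 := by simp [hP, hu]
      simp [this]
    · exact Submodule.subset_span ⟨i, rfl⟩
  have h3 := (Submodule.finrank_mono hle).trans
    (finrank_range_le_card (R := GF4) fun i => P (x i))
  simp only [Fintype.card_fin, finrank_fintype_fun_eq_card] at h3 hW
  omega

theorem exists_vec_one {τ : (Fin n → GF4) → G} (h : UCoord n τ D) {f a : Fin n → GF4}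
    (ha : a ∈ uS n) (hfa : 𝐡 a f ≠ 0) : ∃ a' ∈ uS n, 𝐡 a' f = 1 ∧ τ a' = τ a :=
  ⟨(𝐡 a f)⁻¹ • a, smul_mem_uS ha (inv_ne_zero hfa), by rw [U.herm_smul_left, inv_mul_cancel₀ hfa],
    h.tau_smul ha (inv_ne_zero hfa)⟩

theorem UCoord.aff_iff {τ : (Fin n → GF4) → G} (h : UCoord n τ D) {f a c : Fin n → GF4}
    (hf : f ∈ uS n) (ha : a ∈ uS n) (hc : c ∈ uS n) (h1 : 𝐡 a f = 1) :
    Aff (τ f) (τ a) (τ c) ↔ 𝐡 c f ≠ 0 ∧ 𝐡 c a ≠ 0 ∧ 𝐡 c a + 𝐡 c f ≠ 0 := by
  rw [Aff, ← h.coord.op f hf a ha, h.commute_iff hf ha, h.commute_iff' hc hf, h.commute_iff' hc ha,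
    h.commute_iff' hc (transv_mem_uS hf ha), h1, one_smul, U.herm_add_right]
  simp

set_option synthInstance.maxSize 4000 in
theorem UCoord.tan {τ : (Fin n → GF4) → G} (h : UCoord n τ D) (h6 : 6 ≤ n) : Tan D := by
  intro f hf a ha c hc b hb k l h1 h2
  replace hf := h.coord.surj f hf
  replace ha := h.coord.surj a ha
  replace hc := h.coord.surj c hc
  replace hb := h.coord.surj b hb
  obtain ⟨f, hf, rfl⟩ := hf
  obtain ⟨a, ha, rfl⟩ := ha
  obtain ⟨c, hc, rfl⟩ := hc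
  obtain ⟨b, hb, rfl⟩ := hb
  obtain ⟨a', ha', e1, e⟩ := exists_vec_one h ha (mt (h.commute_iff hf ha).2 k.1)
  rw [← e] at k l h2 ⊢
  clear e ha a
  have e2 := U.herm_comm_one e1
  rw [h.aff_iff hf ha' hc e1] at k
  rw [h.aff_iff hf ha' hb e1] at l
  have op2 : ∀ c ∈ uS n, ∀ x ∈ uS n, Commute (τ x) (τ a' * (τ f * τ c * τ f) * τ a') ↔
      𝐡 x c + σ (𝐡 c f) * 𝐡 x f + σ (𝐡 c a' + 𝐡 c f) * 𝐡 x a' = 0 := fun c hc x hx => by
    rw [← h.coord.op f hf c hc, ← h.coord.op a' ha' _ (transv_mem_uS hf hc),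
      h.commute_iff' hx (transv_mem_uS ha' (transv_mem_uS hf hc))]
    simp only [U.herm_add_left, U.herm_add_right, U.herm_smul_left, U.herm_smul_right, e2, mul_one]
  rw [h.commute_iff' hb hc] at h1
  rw [op2 c hc b hb, h1] at h2
  let w : GF4 := ⟨0, 1⟩
  obtain ⟨z, z1, z2, z3⟩ := exists_norm_one
    ![f + w • a', f + σ w • a', c + 𝐡 c (f + w • a') • (f + w • a') +
      𝐡 c (f + σ w • a') • (f + σ w • a')] ![b] (by
      simp only [Fin.forall_fin_succ, Matrix.cons_val_zero, Matrix.cons_val_succ,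
        U.herm_add_left, U.herm_add_right, U.herm_smul_left, U.herm_smul_right, e1, e2, hf.2,
        ha'.2, hc.2, ← U.herm_conj c f, ← U.herm_conj c a', U.conj_apply, IsEmpty.forall_iff]
      revert k
      generalize 𝐡 c f = s
      generalize 𝐡 c a' = t
      revert s t
      decide) (by omega)
  simp only [Fin.forall_fin_succ, Matrix.cons_val_zero, Matrix.cons_val_succ, IsEmpty.forall_iff,
    and_true] at z2 z3
  obtain ⟨y1, y2, y3⟩ := z2
  rw [U.herm_add_right, U.herm_add_right, U.herm_smul_right, U.herm_smul_right, y1, y2, mul_zero,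
    mul_zero, add_zero, add_zero] at y3
  have zfa : 𝐡 z f = 0 ∧ 𝐡 z a' = 0 := by
    simp only [U.herm_add_right, U.herm_smul_right, U.conj_apply] at y1 y2
    revert y1 y2
    generalize 𝐡 z f = s
    generalize 𝐡 z a' = t
    revert s t
    decide
  have hz : ∀ s t : GF4, ∀ x, 𝐡 z x = 0 → 𝐡 (s • f + t • a' + z) x = s * 𝐡 f x + t * 𝐡 a' x :=
    fun s t x hx => by simp only [U.herm_add_left, U.herm_smul_left, hx, add_zero]
  set e := σ (𝐡 c a') • f + σ (𝐡 c f) • a' + z with he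
  have he' : e ∈ uS n := by
    refine ⟨fun e0 => ?_, ?_⟩
    · have := congrArg (fun v => 𝐡 v z) (he.symm.trans e0)
      simp [U.herm_add_left, U.herm_smul_left, U.herm_comm_zero zfa.1, U.herm_comm_zero zfa.2, z1,
        U.herm_zero_left] at this
    · simp only [he, U.herm_add_left, U.herm_add_right, U.herm_smul_left, U.herm_smul_right, e1, e2,
        hf.2, ha'.2, U.herm_comm_zero zfa.1, U.herm_comm_zero zfa.2, z1, zfa.1, zfa.2,
        U.conj_apply]
      revert k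
      generalize 𝐡 c f = s
      generalize 𝐡 c a' = t
      revert s t
      decide
  refine Or.inr ⟨τ e, h.coord.mem e he', ?_⟩
  rw [h.aff_iff hf ha' he' e1, h.commute_iff' he' hc, h.commute_iff' he' hb, op2 c hc e he',
    op2 b hb e he', he, hz _ _ f zfa.1, hz _ _ a' zfa.2, hz _ _ c y3, hz _ _ b z3]
  simp only [e1, e2, hf.2, ha'.2, ← U.herm_conj c f, ← U.herm_conj c a', ← U.herm_conj b f,
    ← U.herm_conj b a', U.conj_apply] at h2 ⊢
  revert k l h2
  generalize 𝐡 c f = s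
  generalize 𝐡 c a' = t
  generalize 𝐡 b f = s'
  generalize 𝐡 b a' = t'
  revert s t s' t'
  decide

theorem HQ.ea_of_isU [Finite G] {G' : Type*} [Group G'] {π : G →* G'} (h : HQ D π)
    (hU : IsU (π '' D) n) (h6 : 6 ≤ n) : IsElementaryAbelian 2 (pCore 2 G) :=
  h.ea_of_tan (hU.wide (by omega)) (hU.elim fun _ k => k.tan h6)

section Ident

open Matrix

/-- The transvections of the special unitary group. -/
def suD (n : ℕ) : Set (SU n GF4 2) :=
  {g | (((g : SpecialLinearGroup (Fin n) GF4) : Matrix (Fin n) (Fin n) GF4) - 1).rank = 1}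

theorem rank_eq_of {r : ℕ} (A : Matrix (Fin n) (Fin n) GF4) (B : Matrix (Fin n) (Fin r) GF4)
    (C : Matrix (Fin r) (Fin n) GF4) (P : Matrix (Fin r) (Fin n) GF4)
    (Q : Matrix (Fin n) (Fin r) GF4) (h1 : A = B * C) (h2 : P * A * Q = 1) : A.rank = r := by
  refine le_antisymm ?_ ?_
  · rw [h1]
    exact (rank_mul_le_left B C).trans (by simpa using rank_le_width B)
  · have := (rank_mul_le_left (P * A) Q).trans (rank_mul_le_right P A)
    rwa [h2, rank_one, Fintype.card_fin] at this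

/-- Two involutions of rank `r` whose product has large order. -/
def BadSU (n r : ℕ) : Prop := ∃ a b : SU n GF4 2,
  (((a : SpecialLinearGroup (Fin n) GF4) : Matrix (Fin n) (Fin n) GF4) - 1).rank = r ∧
  (((b : SpecialLinearGroup (Fin n) GF4) : Matrix (Fin n) (Fin n) GF4) - 1).rank = r ∧
  orderOf a = 2 ∧ orderOf b = 2 ∧ (a * b) ^ 2 ≠ 1 ∧ (a * b) ^ 3 ≠ 1

theorem exists_bad_su {r : ℕ} (x y : Matrix (Fin n) (Fin n) GF4) (hx : x * x = 1)
    (hx' : xᵀ * x.map (fun t => t ^ 2) = 1) (hy : y * y = 1)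
    (hy' : yᵀ * y.map (fun t => t ^ 2) = 1) (rx : (x - 1).rank = r) (ry : (y - 1).rank = r)
    (hr : r ≠ 0) (h2 : (x * y) ^ 2 ≠ 1) (h3 : (x * y) ^ 3 ≠ 1) : BadSU n r := by
  have ex : ∀ M : Matrix (Fin n) (Fin n) GF4, M * M = 1 → Mᵀ * M.map (fun t => t ^ 2) = 1 →
      (M - 1).rank = r → ∃ g : SU n GF4 2, ((g : SpecialLinearGroup (Fin n) GF4) :
        Matrix (Fin n) (Fin n) GF4) = M ∧ orderOf g = 2 := fun M h1 h2 h3 => by
    have hd : M.det = 1 := by
      have h3 : M.det * M.det = 1 := by rw [← det_mul, h1, det_one]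
      revert h3
      generalize M.det = c
      revert c
      decide
    refine ⟨U.mkSU M (U.pres_iff.2 h2) hd, rfl, orderOf_eq_prime ?_ fun e => ?_⟩
    · apply Subtype.ext; apply Subtype.ext
      rw [sq]
      exact h1
    · have : M = 1 := congrArg (fun c : SU n GF4 2 =>
        ((c : SpecialLinearGroup (Fin n) GF4) : Matrix (Fin n) (Fin n) GF4)) e
      rw [this, sub_self, rank_zero] at h3
      exact hr h3.symm
  obtain ⟨a, rfl, oa⟩ := ex x hx hx' rx
  obtain ⟨b, rfl, ob⟩ := ex y hy hy' ry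
  refine ⟨a, b, rx, ry, oa, ob, fun h => h2 ?_, fun h => h3 ?_⟩
  · simpa using congrArg (fun c : SU n GF4 2 =>
      ((c : SpecialLinearGroup (Fin n) GF4) : Matrix (Fin n) (Fin n) GF4)) h
  · simpa using congrArg (fun c : SU n GF4 2 =>
      ((c : SpecialLinearGroup (Fin n) GF4) : Matrix (Fin n) (Fin n) GF4)) h

theorem isU_of_bad (h4 : 4 ≤ n) (bad : ∀ r, 2 ≤ r → 2 * r ≤ n → BadSU n r)
    {E : Set (SU n GF4 2)} (hE : IsThreeTranspositionClass E) : IsU E n := by
  have hc := (group_of_class hE).2.1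
  have hD := S1631.result _ card_GF4 n h4
  have sub : E ⊆ suD n := fun g he => by
    have hg := hE.1.1 g he
    set A := ((g : SpecialLinearGroup (Fin n) GF4) : Matrix (Fin n) (Fin n) GF4) with hA
    have hAA : A * A = 1 := by
      have := congrArg (fun c : SU n GF4 2 =>
        ((c : SpecialLinearGroup (Fin n) GF4) : Matrix (Fin n) (Fin n) GF4)) (pow_orderOf_eq_one g)
      simpa [hg, sq] using this
    have h3 : 2 * (A - 1).rank ≤ n := by
      have h2 : (2 : Matrix (Fin n) (Fin n) GF4) = 0 := by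
        rw [← one_add_one_eq_two]
        exact Matrix.ext fun i j => gf4_add_self _
      have : (A - 1) * (A - 1) = A * A + 1 - 2 * A := by noncomm_ring
      have := rank_add_rank_le_card_of_mul_eq_zero (A := A - 1) (B := A - 1)
        (by rw [this, hAA, h2, zero_mul, sub_zero, one_add_one_eq_two, h2])
      simp only [Fintype.card_fin] at this
      omega
    have h0 : (A - 1).rank ≠ 0 := fun h => by
      have h1 : A - 1 = 0 := by
        have := (Submodule.finrank_eq_zero (R := GF4)).1 h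
        rw [LinearMap.range_eq_bot] at this
        exact Matrix.toLin'.injective (by rw [map_zero, Matrix.toLin'_apply']; exact this)
      have : g = 1 := by
        apply Subtype.ext; apply Subtype.ext
        simpa using sub_eq_zero.1 h1
      rw [this] at hg
      simp at hg
    by_contra h1
    obtain ⟨a, b, ha, hb, oa, ob, n2, n3⟩ := bad (A - 1).rank
      (by change ¬ (A - 1).rank = 1 at h1; omega) h3
    have hm : ∀ c : SU n GF4 2, orderOf c = 2 → (((c : SpecialLinearGroup (Fin n) GF4) :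
        Matrix (Fin n) (Fin n) GF4) - 1).rank = (A - 1).rank → c ∈ E := fun c oc hc' => by
      have := TY.charP_GF4
      obtain ⟨u, hu⟩ := isConj_iff.1
        ((S2164.result (q := 2) card_GF4 (by omega) g c hg oc).2.2 hc'.symm)
      rw [← hu]
      exact hc u _ he
    exact (hE.1.2 _ (hm a oa ha) _ (hm b ob hb)).elim n2 n3
  obtain ⟨e, he⟩ := nonempty_of_class hE
  have : E = suD n := sub.antisymm fun x hx => by
    obtain ⟨g, rfl⟩ := exists_conj_of_class hD (sub he) hx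
    exact hc g e he
  rw [this]
  exact suD_coord h4

theorem isU_five {E : Set (SU 5 GF4 2)} (hE : IsThreeTranspositionClass E) : IsU E 5 :=
  isU_of_bad (by norm_num) (fun r h1 h2 => by
    obtain rfl : r = 2 := by omega
    exact exists_bad_su (r := 2) !![0,1,0,0,0; 1,0,0,0,0; 0,0,0,1,0; 0,0,1,0,0; 0,0,0,0,1]
      !![1,0,0,0,0; 0,0,1,0,0; 0,1,0,0,0; 0,0,0,0,1; 0,0,0,1,0]
      (by decide +kernel) (by decide +kernel) (by decide +kernel) (by decide +kernel)
      (rank_eq_of _ !![1,0; 1,0; 0,1; 0,1; 0,0]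
      !![1,1,0,0,0; 0,0,1,1,0]
      !![1,0,0,0,0; 0,0,1,0,0]
      !![1,0; 0,0; 0,1; 0,0; 0,0] (by decide +kernel) (by decide +kernel))
      (rank_eq_of _ !![0,0; 1,0; 1,0; 0,1; 0,1]
      !![0,1,1,0,0; 0,0,0,1,1]
      !![0,1,0,0,0; 0,0,0,1,0]
      !![0,0; 1,0; 0,0; 0,1; 0,0] (by decide +kernel) (by decide +kernel))
      (by norm_num) (by decide +kernel) (by decide +kernel)) hE

theorem isU_seven {E : Set (SU 7 GF4 2)} (hE : IsThreeTranspositionClass E) : IsU E 7 :=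
  isU_of_bad (by norm_num) (fun r h1 h2 => by
    obtain rfl | rfl : r = 2 ∨ r = 3 := by omega
    · exact (exists_bad_su (r := 2) !![0,1,0,0,0,0,0; 1,0,0,0,0,0,0; 0,0,0,1,0,0,0; 0,0,1,0,0,0,0; 0,0,0,0,1,0,0; 0,0,0,0,0,1,0; 0,0,0,0,0,0,1]
      !![1,0,0,0,0,0,0; 0,0,1,0,0,0,0; 0,1,0,0,0,0,0; 0,0,0,0,1,0,0; 0,0,0,1,0,0,0; 0,0,0,0,0,1,0; 0,0,0,0,0,0,1]
      (by decide +kernel) (by decide +kernel) (by decide +kernel) (by decide +kernel)
      (rank_eq_of _ !![1,0; 1,0; 0,1; 0,1; 0,0; 0,0; 0,0]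
      !![1,1,0,0,0,0,0; 0,0,1,1,0,0,0]
      !![1,0,0,0,0,0,0; 0,0,1,0,0,0,0]
      !![1,0; 0,0; 0,1; 0,0; 0,0; 0,0; 0,0] (by decide +kernel) (by decide +kernel))
      (rank_eq_of _ !![0,0; 1,0; 1,0; 0,1; 0,1; 0,0; 0,0]
      !![0,1,1,0,0,0,0; 0,0,0,1,1,0,0]
      !![0,1,0,0,0,0,0; 0,0,0,1,0,0,0]
      !![0,0; 1,0; 0,0; 0,1; 0,0; 0,0; 0,0] (by decide +kernel) (by decide +kernel))
      (by norm_num) (by decide +kernel) (by decide +kernel))
    · exact (exists_bad_su (r := 3) !![0,1,0,0,0,0,0; 1,0,0,0,0,0,0; 0,0,0,1,0,0,0; 0,0,1,0,0,0,0; 0,0,0,0,0,1,0; 0,0,0,0,1,0,0; 0,0,0,0,0,0,1]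
      !![1,0,0,0,0,0,0; 0,0,1,0,0,0,0; 0,1,0,0,0,0,0; 0,0,0,0,1,0,0; 0,0,0,1,0,0,0; 0,0,0,0,0,0,1; 0,0,0,0,0,1,0]
      (by decide +kernel) (by decide +kernel) (by decide +kernel) (by decide +kernel)
      (rank_eq_of _ !![1,0,0; 1,0,0; 0,1,0; 0,1,0; 0,0,1; 0,0,1; 0,0,0]
      !![1,1,0,0,0,0,0; 0,0,1,1,0,0,0; 0,0,0,0,1,1,0]
      !![1,0,0,0,0,0,0; 0,0,1,0,0,0,0; 0,0,0,0,1,0,0]
      !![1,0,0; 0,0,0; 0,1,0; 0,0,0; 0,0,1; 0,0,0; 0,0,0] (by decide +kernel) (by decide +kernel))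
      (rank_eq_of _ !![0,0,0; 1,0,0; 1,0,0; 0,1,0; 0,1,0; 0,0,1; 0,0,1]
      !![0,1,1,0,0,0,0; 0,0,0,1,1,0,0; 0,0,0,0,0,1,1]
      !![0,1,0,0,0,0,0; 0,0,0,1,0,0,0; 0,0,0,0,0,1,0]
      !![0,0,0; 1,0,0; 0,0,0; 0,1,0; 0,0,0; 0,0,1; 0,0,0] (by decide +kernel) (by decide +kernel))
      (by norm_num) (by decide +kernel) (by decide +kernel))) hE

end Ident

end Cfsg.Agent.TT
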